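import Groth.Agent.IsocLib.Lattice

/-!
# The order of the determinant of an isocrystal
-/

set_option backward.isDefEq.respectTransparency false
set_option backward.isDefEq.respectTransparency.types false
set_option linter.style.haveILetI false
set_option autoImplicit false

universe u v

open scoped Pointwise Isocrystal
open Isoc Module

namespace Groth.Agent.IsocLib

variable {p : ℕ} [Fact p.Prime] {k : Type u} [Field k] [CharP k p] [PerfectRing k p]


/-! ### Orders of scalars -/

theorem isOrdP_one : IsOrdP (1 : K(p, k)) 0 := ⟨1, by simp⟩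

theorem IsOrdP.mul {c c' : K(p, k)} {r r' : ℤ} (h : IsOrdP c r) (h' : IsOrdP c' r') :
    IsOrdP (c * c') (r + r') := by
  obtain ⟨u, rfl⟩ := h
  obtain ⟨u', rfl⟩ := h'
  exact ⟨u * u', by rw [Units.val_mul, map_mul, zpow_add₀ q_ne]; ring⟩

theorem isOrdP_qzpow (r : ℤ) : IsOrdP ((p : K(p, k)) ^ r) r := ⟨1, by simp⟩

theorem isOrdP_unit {w : (WittVector p k)} (hw : IsUnit w) : IsOrdP (algebraMap (WittVector p k) K(p, k) w) 0 := ⟨hw.unit, by simp⟩

theorem exists_isOrdP {c : K(p, k)} (hc : c ≠ 0) : ∃ r, IsOrdP c r := by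
  obtain ⟨n, w, hw⟩ := exists_pow_mul_mem_range c
  have hw0 : w ≠ 0 := by
    rintro rfl
    rw [map_zero, mul_eq_zero] at hw
    exact hw.elim (zpow_ne_zero _ q_ne) hc
  obtain ⟨m, u, rfl⟩ := WittVector.exists_eq_pow_p_mul' w hw0
  refine ⟨(m : ℤ) - n, u, ?_⟩
  rw [map_mul, algebraMap_p_pow] at hw
  rw [sub_eq_add_neg, zpow_add₀ q_ne, mul_right_comm, ← hw, mul_right_comm, ← zpow_add₀ q_ne]
  simp

theorem IsOrdP.le_of_mul_mem {c : K(p, k)} {d r : ℤ} (h : IsOrdP c d) {w : (WittVector p k)}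
    (hw : (p : K(p, k)) ^ (-r) * c = algebraMap (WittVector p k) K(p, k) w) : r ≤ d := by
  obtain ⟨u, rfl⟩ := h
  by_contra hlt
  obtain ⟨n, hn⟩ := Int.le.dest (show d + 1 ≤ r by omega)
  have h1 : algebraMap (WittVector p k) K(p, k) ((p : (WittVector p k)) ^ (n + 1) * w) = algebraMap (WittVector p k) K(p, k) (u : (WittVector p k)) := by
    rw [map_mul, algebraMap_p_pow, ← hw, ← mul_assoc, ← mul_assoc, ← zpow_add₀ q_ne, ← zpow_add₀ q_ne,
      show ((n + 1 : ℕ) : ℤ) + -r + d = 0 by push_cast; omega, zpow_zero, one_mul]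
  have h2 : IsUnit ((p : (WittVector p k)) ^ (n + 1) * w) := by
    rw [IsFractionRing.injective (WittVector p k) K(p, k) h1]; exact u.isUnit
  exact (WittVector.irreducible p).not_isUnit
    (isUnit_of_dvd_unit ((dvd_pow_self _ n.succ_ne_zero).mul_right w) h2)

theorem IsOrdP.eq {c : K(p, k)} {r r' : ℤ} (h : IsOrdP c r) (h' : IsOrdP c r') : r = r' := by
  obtain ⟨u, hu⟩ := h
  obtain ⟨u', hu'⟩ := h'
  have a1 : (p : K(p, k)) ^ (-r) * c = algebraMap (WittVector p k) K(p, k) (u : (WittVector p k)) := by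
    rw [hu, ← mul_assoc, ← zpow_add₀ q_ne]; simp
  have a2 : (p : K(p, k)) ^ (-r') * c = algebraMap (WittVector p k) K(p, k) (u' : (WittVector p k)) := by
    rw [hu', ← mul_assoc, ← zpow_add₀ q_ne]; simp
  exact le_antisymm (IsOrdP.le_of_mul_mem ⟨u', hu'⟩ a1) (IsOrdP.le_of_mul_mem ⟨u, hu⟩ a2)

theorem IsOrdP.map {τ : K(p, k) →+* K(p, k)} (hτ : Twist τ) {c : K(p, k)} {r : ℤ} (h : IsOrdP c r) : IsOrdP (τ c) r := by
  obtain ⟨e, he⟩ := hτ
  obtain ⟨u, rfl⟩ := h
  exact ⟨Units.map e.toRingHom.toMonoidHom u, by rw [map_mul, map_qzpow, he]; rfl⟩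

/-! ### Matrices -/

variable {N : Type v} [AddCommGroup N] [Module K(p, k) N]
variable {τ : K(p, k) →+* K(p, k)} {h : ℕ}

/-- The matrix of a map in a basis. -/
noncomputable def mat (b : Basis (Fin h) K(p, k) N) (f : N → N) : Matrix (Fin h) (Fin h) K(p, k) :=
  Matrix.of fun i j => b.repr (f (b j)) i

omit [CharP k p] [PerfectRing k p] in
theorem detCoeff_eq (b : Basis (Fin h) K(p, k) N) (F : N →ₛₗ[τ] N) : detCoeff b F = (mat b F).det := rfl

theorem semilinear_repr (b b' : Basis (Fin h) K(p, k) N) (F : N →ₛₗ[τ] N) (x : N) :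
    (fun i => b'.repr (F x) i) =
      (Matrix.of fun i j => b'.repr (F (b j)) i).mulVec (fun j => τ (b.repr x j)) := by
  ext i
  conv_lhs => rw [← b.sum_repr x]
  simp only [map_sum, F.map_smulₛₗ, map_smul, Finsupp.coe_finset_sum, Finset.sum_apply, Finsupp.coe_smul,
    Pi.smul_apply, smul_eq_mul, Matrix.mulVec, dotProduct, Matrix.of_apply]
  exact Finset.sum_congr rfl fun j _ => mul_comm _ _

theorem mat_basis_change (b b' : Basis (Fin h) K(p, k) N) (F : N →ₛₗ[τ] N) :
    mat b' F = b'.toMatrix b * mat b F * (b.toMatrix b').map τ := by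
  ext i j
  have h1 := congrFun (semilinear_repr b b' F (b' j)) i
  have h2 : (Matrix.of fun i j => b'.repr (F (b j)) i) = b'.toMatrix b * mat b F := by
    ext a c
    simp only [Matrix.mul_apply, mat, Basis.toMatrix_apply, Matrix.of_apply]
    conv_lhs => rw [← b.sum_repr (F (b c))]
    simp only [map_sum, map_smul, Finsupp.coe_finset_sum, Finset.sum_apply, Finsupp.coe_smul,
      Pi.smul_apply, smul_eq_mul]
    exact Finset.sum_congr rfl fun j _ => mul_comm _ _
  rw [h2] at h1
  exact h1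

theorem isOrdP_det_change (hτ : Twist τ) (b b' : Basis (Fin h) K(p, k) N) (F : N →ₛₗ[τ] N) {d : ℤ}
    (hd : IsOrdP (detCoeff b F) d) : IsOrdP (detCoeff b' F) d := by
  have h1 : (b'.toMatrix b).det * (b.toMatrix b').det = 1 := by
    rw [← Matrix.det_mul, Basis.toMatrix_mul_toMatrix_flip, Matrix.det_one]
  obtain ⟨r, hr⟩ := exists_isOrdP (right_ne_zero_of_mul_eq_one h1)
  obtain ⟨r', hr'⟩ := exists_isOrdP (left_ne_zero_of_mul_eq_one h1)
  have hrr : r' + r = 0 := by
    have h2 := IsOrdP.mul hr' hr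
    rw [h1] at h2
    exact IsOrdP.eq h2 isOrdP_one
  have := IsOrdP.mul (IsOrdP.mul hr' hd) (IsOrdP.map hτ hr)
  rw [show r' + d + r = d by omega] at this
  rwa [detCoeff_eq, mat_basis_change b b', Matrix.det_mul, Matrix.det_mul,
    show ((b.toMatrix b').map τ).det = τ (b.toMatrix b').det from (τ.map_det _).symm]

theorem mat_iterate_succ (b : Basis (Fin h) K(p, k) N) (F : N →ₛₗ[τ] N) (n : ℕ) :
    mat b (⇑F)^[n + 1] = mat b F * (mat b (⇑F)^[n]).map τ := by
  ext i j
  have h1 := congrFun (semilinear_repr b b F ((⇑F)^[n] (b j))) i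
  simp only [mat, Matrix.of_apply, Function.iterate_succ_apply']
  exact h1

theorem isOrdP_det_iterate (hτ : Twist τ) (b : Basis (Fin h) K(p, k) N) (F : N →ₛₗ[τ] N) {d : ℤ}
    (hd : IsOrdP (detCoeff b F) d) (n : ℕ) : IsOrdP (mat b (⇑F)^[n]).det (n * d) := by
  induction n with
  | zero =>
    have : mat b (⇑F)^[0] = 1 := by
      ext i j; simp [mat, Matrix.one_apply, Finsupp.single_apply, eq_comm]
    rw [this, Matrix.det_one]; simpa using isOrdP_one
  | succ n ih =>
    rw [mat_iterate_succ, Matrix.det_mul,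
      show ((mat b (⇑F)^[n]).map τ).det = τ (mat b (⇑F)^[n]).det from (τ.map_det _).symm]
    have h2 := IsOrdP.mul hd (IsOrdP.map hτ ih)
    rwa [show d + (n : ℤ) * d = ((n + 1 : ℕ) : ℤ) * d by push_cast; ring] at h2

theorem exists_isOrdP_det (hτ : Twist τ) (b : Basis (Fin h) K(p, k) N) {F : N →ₛₗ[τ] N}
    (hF : Function.Injective F) : ∃ d, IsOrdP (detCoeff b F) d := by
  refine exists_isOrdP ?_
  rw [detCoeff_eq, ← isUnit_iff_ne_zero, ← Matrix.isUnit_iff_isUnit_det,
    ← Matrix.linearIndependent_cols_iff_isUnit]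
  have hli : LinearIndependent K(p, k) (fun j => F (b j)) := by
    rw [Fintype.linearIndependent_iff]
    intro g hg i
    choose a ha using fun j => hτ.bijective.surjective (g j)
    have h0 : F (∑ j, a j • b j) = 0 := by
      simp only [map_sum, F.map_smulₛₗ, ha]; exact hg
    have := Fintype.linearIndependent_iff.1 b.linearIndependent a (hF (h0.trans (map_zero F).symm)) i
    rw [← ha i, this, map_zero]
  exact hli.map' b.equivFun.toLinearMap b.equivFun.ker

theorem finrank_eq (b : Basis (Fin h) K(p, k) N) : Module.finrank K(p, k) N = h := by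
  rw [Module.finrank_eq_card_basis b, Fintype.card_fin]

/-! ### Lattices -/

variable [Module (WittVector p k) N] [IsScalarTower (WittVector p k) K(p, k) N]

theorem exists_lattice_basis (M : Submodule (WittVector p k) N) [M.IsLattice K(p, k)] (hh : Module.finrank K(p, k) N = h) :
    ∃ b : Basis (Fin h) K(p, k) N, M = Submodule.span (WittVector p k) (Set.range b) := by
  have : Module.IsTorsionFree (WittVector p k) K(p, k) := inferInstance
  have := Submodule.IsLattice.free K(p, k) M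
  have : Module.Finite (WittVector p k) M := Submodule.IsLattice.finite K(p, k) M
  let b := Module.Free.chooseBasis (WittVector p k) M
  let B := b.extendOfIsLattice K(p, k)
  let e := Fintype.equivFinOfCardEq ((Module.finrank_eq_card_basis B).symm.trans hh)
  refine ⟨B.reindex e, ?_⟩
  rw [Basis.range_reindex]
  have : (Set.range B) = M.subtype '' Set.range b := by
    rw [← Set.range_comp]
    congr 1
    funext i
    simp [B]
  rw [this, ← Submodule.map_span, b.span_eq, Submodule.map_top, Submodule.range_subtype]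

theorem repr_mem_range {b : Basis (Fin h) K(p, k) N} {M : Submodule (WittVector p k) N}
    (hb : M = Submodule.span (WittVector p k) (Set.range b)) {x : N} (hx : x ∈ M) (i : Fin h) :
    ∃ w : (WittVector p k), b.repr x i = algebraMap (WittVector p k) K(p, k) w := by
  obtain ⟨w, hw⟩ := (b.mem_span_iff_repr_mem (WittVector p k) x).1 (hb ▸ hx) i
  exact ⟨w, hw.symm⟩

variable {F : N →ₛₗ[τ] N} {M : Submodule (WittVector p k) N} {r : ℤ} {s : ℕ} {d : ℤ}

/-- In a basis of the lattice, `p^(-r) F^s` has an integral matrix. -/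
theorem exists_integral_mat {b : Basis (Fin h) K(p, k) N} (hb : M = Submodule.span (WittVector p k) (Set.range b))
    (hle : latImg F s M ≤ pPow r M) :
    ∃ Ψ : Matrix (Fin h) (Fin h) (WittVector p k),
      (∀ j, (p : K(p, k)) ^ (-r) • (⇑F)^[s] (b j) = ∑ i, Ψ i j • b i) ∧
      (p : K(p, k)) ^ (-(r * h)) * (mat b (⇑F)^[s]).det = algebraMap (WittVector p k) K(p, k) Ψ.det := by
  have hmem : ∀ j, (p : K(p, k)) ^ (-r) • (⇑F)^[s] (b j) ∈ M := fun j =>
    mem_pPow.1 (hle (apply_mem_latImg F (hb ▸ Submodule.subset_span ⟨j, rfl⟩)))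
  choose Ψ hΨ using fun i j => repr_mem_range hb (hmem j) i
  refine ⟨Matrix.of Ψ, fun j => ?_, ?_⟩
  · conv_lhs => rw [← b.sum_repr ((p : K(p, k)) ^ (-r) • (⇑F)^[s] (b j))]
    refine Finset.sum_congr rfl fun i _ => ?_
    rw [hΨ, algebraMap_smul]; rfl
  · rw [RingHom.map_det, RingHom.mapMatrix_apply]
    have : (Matrix.of Ψ).map (algebraMap (WittVector p k) K(p, k)) = (p : K(p, k)) ^ (-r) • mat b (⇑F)^[s] := by
      ext i j
      simp [mat, ← hΨ i j]
    rw [this, Matrix.det_smul, Fintype.card_fin, ← zpow_natCast, ← zpow_mul, neg_mul]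

theorem le_det (hτ : Twist τ) [M.IsLattice K(p, k)] (b : Basis (Fin h) K(p, k) N)
    (hd : IsOrdP (detCoeff b F) d) (hle : latImg F s M ≤ pPow r M) : r * h ≤ s * d := by
  obtain ⟨b', hb'⟩ := exists_lattice_basis M (finrank_eq b)
  obtain ⟨Ψ, -, hΨ⟩ := exists_integral_mat hb' hle
  exact IsOrdP.le_of_mul_mem (isOrdP_det_iterate hτ b' F (isOrdP_det_change hτ b b' F hd) s) hΨ

theorem det_of_eq (hτ : Twist τ) [M.IsLattice K(p, k)] (b : Basis (Fin h) K(p, k) N)
    (hd : IsOrdP (detCoeff b F) d) (heq : latImg F s M = pPow r M) : r * h = s * d := by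
  obtain ⟨b', hb'⟩ := exists_lattice_basis M (finrank_eq b)
  obtain ⟨Ψ, hΨ, hdet⟩ := exists_integral_mat hb' heq.le
  -- the vectors `p^(-r) F^s b'_j` generate the lattice
  let φ : (Fin h → (WittVector p k)) →ₗ[(WittVector p k)] N := Fintype.linearCombination (WittVector p k) (fun j => (p : K(p, k)) ^ (-r) • (⇑F)^[s] (b' j))
  have hgen : M ≤ LinearMap.range φ := by
    intro x hx
    have hx' : (p : K(p, k)) ^ r • x ∈ latImg F s M := heq ▸ smul_mem_pPow hx
    obtain ⟨y, hy, hyx⟩ := (mem_latImg hτ).1 hx'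
    obtain ⟨e, he⟩ := iterate_wsmul F hτ s
    choose w hw using fun i => repr_mem_range hb' hy i
    refine ⟨fun i => e (w i), ?_⟩
    rw [Fintype.linearCombination_apply]
    have hsum : (⇑F)^[s] y = ∑ i, e (w i) • (⇑F)^[s] (b' i) := by
      conv_lhs => rw [← b'.sum_repr y]
      rw [show (⇑F)^[s] = ⇑(iter F s) from rfl, map_sum]
      refine Finset.sum_congr rfl fun i _ => ?_
      rw [hw, algebraMap_smul]
      exact he _ _
    have hx2 : x = (p : K(p, k)) ^ (-r) • (⇑F)^[s] y := by rw [hyx, qzpow_smul_smul]; simp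
    rw [hx2, hsum, Finset.smul_sum]
    exact Finset.sum_congr rfl fun i _ => smul_comm _ _ _
  choose C hC using fun j => hgen (hb' ▸ Submodule.subset_span ⟨j, rfl⟩ : b' j ∈ M)
  have hone : Ψ * Matrix.of (fun i j => C j i) = 1 := by
    refine Matrix.ext fun i j => ?_
    refine IsFractionRing.injective (WittVector p k) K(p, k) ?_
    have h1 : b' j = ∑ a, (∑ l, Ψ a l * C j l) • b' a := by
      conv_lhs => rw [← hC j, Fintype.linearCombination_apply]
      simp only [hΨ, Finset.smul_sum, smul_smul, Finset.sum_smul]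
      rw [Finset.sum_comm]
      simp only [mul_comm]
    have h2 := congrArg (fun v => b'.repr v i) h1
    simp only [Basis.repr_self, map_sum] at h2
    rw [Matrix.mul_apply, Matrix.one_apply]
    simp [← algebraMap_smul K(p, k) (_ : (WittVector p k)) (b' _), Finsupp.single_apply, map_sum, eq_comm] at h2
    simp only [Matrix.of_apply, map_sum, map_mul]
    rw [apply_ite (algebraMap (WittVector p k) K(p, k)), map_one, map_zero]
    exact h2.symm
  have hu : IsUnit Ψ.det := Matrix.isUnit_det_of_right_inverse hone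
  obtain ⟨u, hu'⟩ := hu
  have h3 : IsOrdP (mat b' (⇑F)^[s]).det (r * h) := ⟨u, by
    rw [hu', ← hdet, ← mul_assoc, ← zpow_add₀ q_ne]; simp⟩
  exact IsOrdP.eq h3 (isOrdP_det_iterate hτ b' F (isOrdP_det_change hτ b b' F hd) s)

theorem eq_of_le_of_det (hτ : Twist τ) [M.IsLattice K(p, k)] (b : Basis (Fin h) K(p, k) N)
    (hd : IsOrdP (detCoeff b F) d) (hle : latImg F s M ≤ pPow r M) (hrs : r * h = s * d) :
    latImg F s M = pPow r M := by
  refine le_antisymm hle fun x hx => ?_
  obtain ⟨b', hb'⟩ := exists_lattice_basis M (finrank_eq b)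
  obtain ⟨Ψ, hΨ, hdet⟩ := exists_integral_mat hb' hle
  obtain ⟨u, hu⟩ := isOrdP_det_iterate hτ b' F (isOrdP_det_change hτ b b' F hd) s
  rw [hu, ← hrs, ← mul_assoc, ← zpow_add₀ q_ne, neg_add_cancel, zpow_zero, one_mul] at hdet
  have hunit : IsUnit Ψ.det := IsFractionRing.injective (WittVector p k) K(p, k) hdet ▸ u.isUnit
  have hcomb : ∀ j, (p : K(p, k)) ^ r • b' j ∈ latImg F s M := by
    intro j
    have h1 : b' j = ∑ l, Ψ⁻¹ l j • ((p : K(p, k)) ^ (-r) • (⇑F)^[s] (b' l)) := by
      simp only [hΨ, Finset.smul_sum, smul_smul]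
      rw [Finset.sum_comm]
      simp only [← Finset.sum_smul]
      have : ∀ a, ∑ l, Ψ⁻¹ l j * Ψ a l = (1 : Matrix (Fin h) (Fin h) (WittVector p k)) a j := fun a => by
        rw [← Matrix.mul_nonsing_inv Ψ hunit, Matrix.mul_apply]
        simp only [mul_comm]
      simp [this, Matrix.one_apply]
    rw [h1, Finset.smul_sum]
    refine Submodule.sum_mem _ fun l _ => ?_
    rw [smul_comm, qzpow_smul_smul, add_neg_cancel, zpow_zero, one_smul]
    exact Submodule.smul_mem _ _ (apply_mem_latImg F (hb' ▸ Submodule.subset_span ⟨l, rfl⟩))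
  obtain ⟨y, hy, rfl⟩ := (Submodule.mem_smul_pointwise_iff_exists _ _ _).1 hx
  rw [hb'] at hy
  induction hy using Submodule.span_induction with
  | mem z hz => obtain ⟨j, rfl⟩ := hz; exact hcomb j
  | zero => simp
  | add a c ha hc iha ihc =>
    rw [smul_add]
    exact add_mem (iha (smul_mem_pPow (hb'.symm ▸ ha))) (ihc (smul_mem_pPow (hb'.symm ▸ hc)))
  | smul w a ha iha =>
    rw [smul_comm]
    exact Submodule.smul_mem _ _ (iha (smul_mem_pPow (hb'.symm ▸ ha)))

end Groth.Agent.IsocLib
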