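import Groth.Agent.IsocLib.Slope

/-!
# Isoclinic subspaces, slope parts
-/

set_option backward.isDefEq.respectTransparency false
set_option backward.isDefEq.respectTransparency.types false
set_option linter.style.haveILetI false
set_option linter.unusedSectionVars false
set_option autoImplicit false

universe u v w

open scoped Pointwise Isocrystal
open Isoc Module

namespace Groth.Agent.IsocLib

variable {p : ℕ} [Fact p.Prime] {k : Type u} [Field k] [CharP k p] [PerfectRing k p]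
variable {N : Type v} [AddCommGroup N] [Module (WittVector p k) N] [Module K(p, k) N] [IsScalarTower (WittVector p k) K(p, k) N]
variable {N' : Type w} [AddCommGroup N'] [Module (WittVector p k) N'] [Module K(p, k) N'] [IsScalarTower (WittVector p k) K(p, k) N']
variable {τ : K(p, k) →+* K(p, k)} {F : N →ₛₗ[τ] N} {F' : N' →ₛₗ[τ] N'}

/-- `P` is isoclinic of slope `μ`, expressed inside the ambient space. -/
def IsoclinicOn (F : N →ₛₗ[τ] N) (P : Submodule K(p, k) N) (μ : ℚ) : Prop :=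
  ∃ M : Submodule (WittVector p k) N, M.FG ∧ Submodule.span K(p, k) (M : Set N) = P ∧
    ∃ (r : ℤ) (s : ℕ), 0 < s ∧ (r : ℚ) / s = μ ∧ latImg F s M = pPow r M

/-- `P` is carried into itself. -/
def Stable (F : N →ₛₗ[τ] N) (P : Submodule K(p, k) N) : Prop := ∀ x ∈ P, F x ∈ P

/-- An `L`-linear map as a `W`-linear one. -/
noncomputable abbrev wmap (f : N →ₗ[K(p, k)] N') : N →ₗ[(WittVector p k)] N' := f.restrictScalars (WittVector p k)

theorem map_iterate (f : N →ₗ[K(p, k)] N') (hf : ∀ x, f (F x) = F' (f x)) (s : ℕ) (x : N) :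
    f ((⇑F)^[s] x) = (⇑F')^[s] (f x) := by
  induction s generalizing x with
  | zero => rfl
  | succ s ih => rw [Function.iterate_succ_apply, ih, hf, Function.iterate_succ_apply]

theorem map_latImg (hτ : Twist τ) (f : N →ₗ[K(p, k)] N') (hf : ∀ x, f (F x) = F' (f x)) (s : ℕ)
    (M : Submodule (WittVector p k) N) : (latImg F s M).map (wmap f) = latImg F' s (M.map (wmap f)) := by
  ext x
  simp only [Submodule.mem_map, mem_latImg hτ, wmap, LinearMap.coe_restrictScalars]
  constructor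
  · rintro ⟨_, ⟨y, hy, rfl⟩, rfl⟩
    exact ⟨f y, ⟨y, hy, rfl⟩, (map_iterate f hf s y).symm⟩
  · rintro ⟨_, ⟨y, hy, rfl⟩, rfl⟩
    exact ⟨_, ⟨y, hy, rfl⟩, map_iterate f hf s y⟩

theorem map_pPow (f : N →ₗ[K(p, k)] N') (r : ℤ) (M : Submodule (WittVector p k) N) :
    (pPow r M).map (wmap f) = pPow r (M.map (wmap f)) := by
  ext x
  rw [mem_pPow]
  simp only [Submodule.mem_map, mem_pPow, wmap, LinearMap.coe_restrictScalars]
  constructor
  · rintro ⟨y, hy, rfl⟩
    exact ⟨_, hy, map_smul f _ _⟩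
  · rintro ⟨y, hy, h⟩
    exact ⟨(p : K(p, k)) ^ r • y, by rw [qzpow_smul_smul]; simpa using hy, by rw [map_smul, h, qzpow_smul_smul]; simp⟩

theorem span_map (f : N →ₗ[K(p, k)] N') (M : Submodule (WittVector p k) N) :
    Submodule.span K(p, k) ((M.map (wmap f) : Submodule (WittVector p k) N') : Set N') =
      (Submodule.span K(p, k) (M : Set N)).map f := by
  rw [Submodule.map_span, Submodule.map_coe]
  rfl

theorem latImg_bot (s : ℕ) : latImg F s (⊥ : Submodule (WittVector p k) N) = ⊥ :=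
  le_bot_iff.1 ((latImg_le_iff F).2 fun y hy => by
    rw [Submodule.mem_bot] at hy ⊢
    rw [hy]; exact map_zero (iter F s))

theorem IsoclinicOn.scale (hτ : Twist τ) {M : Submodule (WittVector p k) N} {r : ℤ} {s : ℕ}
    (h : latImg F s M = pPow r M) (j : ℕ) : latImg F (s * j) M = pPow (r * j) M := latImg_mul_eq hτ h j

/-- Two lattices of different slopes are orthogonal. -/
theorem eq_bot_of_slopes (hτ : Twist τ) (hinj : Function.Injective F) {T M : Submodule (WittVector p k) N} (hT : T.FG)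
    (hM : M.FG) (hspan : (T : Set N) ⊆ Submodule.span K(p, k) (M : Set N)) {S : ℕ} {A B : ℤ}
    (hTA : latImg F S T = pPow A T) (hMB : latImg F S M = pPow B M) (hne : A ≠ B) : T = ⊥ := by
  obtain ⟨c, hc⟩ := exists_pPow_le hT hspan
  have hcT : T ≤ pPow (-(c : ℤ)) M := by
    rw [← pPow_le_pPow_iff (r := (c : ℤ)), pPow_pPow, add_neg_cancel, pPow_zero]; exact hc
  have key : ∀ j : ℕ, T ≤ pPow ((B - A) * j - c) M ∧ T ≤ pPow ((A - B) * j - c) M := by
    intro j
    have h1 := latImg_mono F (S * j) hcT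
    rw [latImg_mul_eq hτ hTA, latImg_pPow hτ, latImg_mul_eq hτ hMB, pPow_pPow] at h1
    refine ⟨?_, fun x hx => ?_⟩
    · rw [← pPow_le_pPow_iff (r := A * j), pPow_pPow, show A * j + ((B - A) * j - c) = -(c : ℤ) + B * j by ring]
      exact h1
    · have h2 : (⇑F)^[S * j] x ∈ pPow (A * j - c) M := by
        have h3 : (⇑F)^[S * j] x ∈ pPow (A * j) T := by
          rw [← latImg_mul_eq hτ hTA]; exact apply_mem_latImg F hx
        have h4 := pPow_mono (A * j) hcT h3
        rwa [pPow_pPow, ← sub_eq_add_neg] at h4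
      rw [show A * (j : ℤ) - c = ((A - B) * j - c) + B * j by ring, ← pPow_pPow, ← latImg_mul_eq hτ hMB,
        ← latImg_pPow hτ] at h2
      obtain ⟨y, hy, hyx⟩ := (mem_latImg hτ).1 h2
      exact hinj.iterate _ hyx ▸ hy
  refine (Submodule.eq_bot_iff _).2 fun x hx => eq_zero_of_forall_mem hM fun n => ?_
  rcases lt_or_gt_of_ne hne with h | h
  · refine pPow_anti ?_ M ((key (n + c)).1 hx)
    push_cast
    nlinarith
  · refine pPow_anti ?_ M ((key (n + c)).2 hx)
    push_cast
    nlinarith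

theorem exponents_eq {r₁ r₂ : ℤ} {s₁ s₂ : ℕ} {μ₁ μ₂ : ℚ} (hs₁ : 0 < s₁) (hs₂ : 0 < s₂)
    (h₁ : (r₁ : ℚ) / s₁ = μ₁) (h₂ : (r₂ : ℚ) / s₂ = μ₂) : r₁ * s₂ = r₂ * s₁ ↔ μ₁ = μ₂ := by
  subst h₁ h₂
  have a : (s₁ : ℚ) ≠ 0 := by positivity
  have b : (s₂ : ℚ) ≠ 0 := by positivity
  rw [div_eq_div_iff a b]
  exact_mod_cast Iff.rfl

theorem hom_vanish (hτ : Twist τ) (hinj : Function.Injective F') {P : Submodule K(p, k) N} {Q : Submodule K(p, k) N'}
    {μ₁ μ₂ : ℚ} (hP : IsoclinicOn F P μ₁) (hQ : IsoclinicOn F' Q μ₂) (hne : μ₁ ≠ μ₂)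
    (f : N →ₗ[K(p, k)] N') (hf : ∀ x, f (F x) = F' (f x)) (hPQ : P.map f ≤ Q) : P.map f = ⊥ := by
  obtain ⟨M, hM, rfl, r, s, hs, hμ₁, heq⟩ := hP
  obtain ⟨M', hM', rfl, r', s', hs', hμ₂, heq'⟩ := hQ
  have h0 : M.map (wmap f) = ⊥ := by
    refine eq_bot_of_slopes hτ hinj (hM.map _) hM' (S := s * s') (A := r * s') (B := r' * s) ?_ ?_ ?_ ?_
    · exact fun x hx => hPQ (by rw [← span_map]; exact Submodule.subset_span hx)
    · rw [← map_latImg hτ f hf, latImg_mul_eq hτ heq, map_pPow]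
    · rw [mul_comm s, latImg_mul_eq hτ heq']
    · exact fun h => hne ((exponents_eq hs hs' hμ₁ hμ₂).1 h)
  rw [← span_map, h0, Submodule.bot_coe, Submodule.span_zero_singleton]

theorem isoclinicOn_bot (μ : ℚ) : IsoclinicOn F (⊥ : Submodule K(p, k) N) μ :=
  ⟨⊥, Submodule.fg_bot, by rw [Submodule.bot_coe, Submodule.span_zero_singleton], μ.num, μ.den,
    μ.den_pos, Rat.num_div_den μ, by rw [latImg_bot, pPow_bot]⟩

theorem IsoclinicOn.sup (hτ : Twist τ) {P Q : Submodule K(p, k) N} {μ : ℚ} (hP : IsoclinicOn F P μ)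
    (hQ : IsoclinicOn F Q μ) : IsoclinicOn F (P ⊔ Q) μ := by
  obtain ⟨M, hM, rfl, r, s, hs, hμ, heq⟩ := hP
  obtain ⟨M', hM', rfl, r', s', hs', hμ', heq'⟩ := hQ
  have hrr := (exponents_eq hs hs' hμ hμ').2 rfl
  refine ⟨M ⊔ M', hM.sup hM', ?_, r * s', s * s', Nat.mul_pos hs hs', ?_, ?_⟩
  · refine le_antisymm (Submodule.span_le.2 fun x hx => ?_)
      (sup_le (Submodule.span_mono fun x hx => Submodule.mem_sup_left hx)
        (Submodule.span_mono fun x hx => Submodule.mem_sup_right hx))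
    obtain ⟨a, ha, b, hb, rfl⟩ := Submodule.mem_sup.1 hx
    exact add_mem (Submodule.mem_sup_left (Submodule.subset_span ha))
      (Submodule.mem_sup_right (Submodule.subset_span hb))
  · rw [← hμ]
    have : (s' : ℚ) ≠ 0 := by positivity
    push_cast
    rw [mul_div_mul_right _ _ this]
  · rw [latImg_sup, pPow_sup, latImg_mul_eq hτ heq, mul_comm s, latImg_mul_eq hτ heq', hrr]

theorem stable_bot : Stable F (⊥ : Submodule K(p, k) N) := fun x hx => by
  rw [Submodule.mem_bot] at hx ⊢; rw [hx, map_zero]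

theorem Stable.sup {P Q : Submodule K(p, k) N} (hP : Stable F P) (hQ : Stable F Q) : Stable F (P ⊔ Q) := by
  intro x hx
  obtain ⟨a, ha, b, hb, rfl⟩ := Submodule.mem_sup.1 hx
  rw [map_add]
  exact add_mem (Submodule.mem_sup_left (hP a ha)) (Submodule.mem_sup_right (hQ b hb))

theorem stable_iSup {ι : Sort*} {P : ι → Submodule K(p, k) N} (h : ∀ i, Stable F (P i)) :
    Stable F (⨆ i, P i) := by
  intro x hx
  induction hx using Submodule.iSup_induction' with
  | mem i y hy => exact Submodule.mem_iSup_of_mem i (h i y hy)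
  | zero => rw [map_zero]; exact zero_mem _
  | add a b _ _ ha hb => rw [map_add]; exact add_mem ha hb

theorem Stable.iterate {P : Submodule K(p, k) N} (hP : Stable F P) (n : ℕ) {x : N} (hx : x ∈ P) :
    (⇑F)^[n] x ∈ P := by
  induction n with
  | zero => exact hx
  | succ n ih => rw [Function.iterate_succ_apply']; exact hP _ ih

theorem Stable.exists_preimage [Module.Finite K(p, k) N] (hτ : Twist τ) (hinj : Function.Injective F)
    {P : Submodule K(p, k) N} (hP : Stable F P) {x : N} (hx : x ∈ P) : ∃ y ∈ P, F y = x := by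
  let b := finBasis K(p, k) P
  have hli : LinearIndependent K(p, k) (fun j => (⟨F (b j), hP _ (b j).2⟩ : P)) := by
    rw [Fintype.linearIndependent_iff]
    intro g hg i
    choose a ha using fun j => hτ.bijective.surjective (g j)
    have h1 := congrArg Subtype.val hg
    simp only [AddSubmonoidClass.coe_finset_sum, Submodule.coe_smul, ZeroMemClass.coe_zero] at h1
    have h0 : F ((∑ j, a j • b j : P) : N) = 0 := by
      simp only [AddSubmonoidClass.coe_finset_sum, Submodule.coe_smul, map_sum, F.map_smulₛₗ, ha]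
      exact h1
    have h2 : (∑ j, a j • b j : P) = 0 := Subtype.ext (hinj (h0.trans (map_zero F).symm))
    rw [← ha i, Fintype.linearIndependent_iff.1 b.linearIndependent a h2 i, map_zero]
  have htop := hli.span_eq_top_of_card_eq_finrank' (by simp)
  have hmem : (⟨x, hx⟩ : P) ∈ Submodule.span K(p, k) (Set.range fun j => (⟨F (b j), hP _ (b j).2⟩ : P)) :=
    htop ▸ Submodule.mem_top
  obtain ⟨c, hc⟩ := (Submodule.mem_span_range_iff_exists_fun K(p, k)).1 hmem
  choose a ha using fun j => hτ.bijective.surjective (c j)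
  refine ⟨((∑ j, a j • b j : P) : N), Subtype.coe_prop _, ?_⟩
  have h1 := congrArg Subtype.val hc
  simp only [AddSubmonoidClass.coe_finset_sum, Submodule.coe_smul, map_sum, F.map_smulₛₗ, ha] at h1 ⊢
  exact h1

theorem Stable.mem_of_iterate_mem [Module.Finite K(p, k) N] (hτ : Twist τ) (hinj : Function.Injective F)
    {P : Submodule K(p, k) N} (hP : Stable F P) (n : ℕ) {y : N} (hy : (⇑F)^[n] y ∈ P) : y ∈ P := by
  induction n with
  | zero => exact hy
  | succ n ih =>
    refine ih ?_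
    rw [Function.iterate_succ_apply'] at hy
    obtain ⟨z, hz, hzy⟩ := hP.exists_preimage hτ hinj hy
    exact hinj hzy ▸ hz

theorem IsoclinicOn.sub [Module.Finite K(p, k) N] (hτ : Twist τ) (hinj : Function.Injective F)
    {P Q : Submodule K(p, k) N} {μ : ℚ} (hQ : IsoclinicOn F Q μ) (hP : Stable F P) (hle : P ≤ Q) :
    IsoclinicOn F P μ := by
  obtain ⟨M, hM, rfl, r, s, hs, hμ, heq⟩ := hQ
  refine ⟨M ⊓ P.restrictScalars (WittVector p k), Submodule.FG.of_le hM inf_le_left,
    le_antisymm (Submodule.span_le.2 fun x hx => hx.2) fun x hx => ?_, r, s, hs, hμ, ?_⟩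
  · obtain ⟨n, hn⟩ := exists_qpow_smul_mem (hle hx)
    have hmem : (p : K(p, k)) ^ (n : ℤ) • x ∈ ((M ⊓ P.restrictScalars (WittVector p k) : Submodule (WittVector p k) N) : Set N) :=
      ⟨hn, P.smul_mem _ hx⟩
    have := Submodule.smul_mem (Submodule.span K(p, k) ((M ⊓ P.restrictScalars (WittVector p k) : Submodule (WittVector p k) N) : Set N))
      ((p : K(p, k)) ^ (-(n : ℤ))) (Submodule.subset_span hmem)
    rwa [qzpow_smul_smul, neg_add_cancel, zpow_zero, one_smul] at this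
  · refine le_antisymm ((latImg_le_iff F).2 fun y hy => mem_pPow.2 ⟨mem_pPow.1 ?_, ?_⟩) fun x hx => ?_
    · exact heq ▸ apply_mem_latImg F hy.1
    · exact P.smul_mem _ (hP.iterate s hy.2)
    · obtain ⟨h1, h2⟩ := mem_pPow.1 hx
      obtain ⟨y, hy, rfl⟩ := (mem_latImg hτ).1 (heq.symm ▸ mem_pPow.2 h1)
      refine apply_mem_latImg F ⟨hy, hP.mem_of_iterate_mem hτ hinj s ?_⟩
      have h3 := P.smul_mem ((p : K(p, k)) ^ r) h2
      rwa [qzpow_smul_smul, add_neg_cancel, zpow_zero, one_smul] at h3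

theorem IsoclinicOn.map (hτ : Twist τ) {P : Submodule K(p, k) N} {μ : ℚ} (hP : IsoclinicOn F P μ)
    (f : N →ₗ[K(p, k)] N') (hf : ∀ x, f (F x) = F' (f x)) : IsoclinicOn F' (P.map f) μ := by
  obtain ⟨M, hM, rfl, r, s, hs, hμ, heq⟩ := hP
  exact ⟨M.map (wmap f), hM.map _, span_map f M, r, s, hs, hμ,
    by rw [← map_latImg hτ f hf, heq, map_pPow]⟩

theorem isoclinicOn_top_iff {μ : ℚ} : IsoclinicOn F (⊤ : Submodule K(p, k) N) μ ↔ IsIsoclinic F μ :=
  ⟨fun ⟨M, hM, hsp, h⟩ => ⟨M, ⟨hM, hsp⟩, h⟩, fun ⟨M, hM, h⟩ => ⟨M, hM.fg, hM.span_eq_top, h⟩⟩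

theorem restrict_comm {P : Submodule K(p, k) N} (hP : ∀ x ∈ P, F x ∈ P) (x : P) :
    P.subtype (F.restrict hP x) = F (P.subtype x) := rfl

theorem isIsoclinic_restrict_iff (hτ : Twist τ) {P : Submodule K(p, k) N} (hP : ∀ x ∈ P, F x ∈ P) {μ : ℚ} :
    IsIsoclinic (F.restrict hP) μ ↔ IsoclinicOn F P μ := by
  constructor
  · intro h
    have := IsoclinicOn.map hτ (isoclinicOn_top_iff.2 h) P.subtype (restrict_comm hP)
    rwa [Submodule.map_top, Submodule.range_subtype] at this
  · rintro ⟨M, hM, hsp, r, s, hs, hμ, heq⟩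
    have hinj : Function.Injective (wmap P.subtype) := Subtype.val_injective
    have hMP : (M.comap (wmap P.subtype)).map (wmap P.subtype) = M := by
      refine Submodule.map_comap_eq_self fun x hx => ⟨⟨x, hsp ▸ Submodule.subset_span hx⟩, rfl⟩
    refine ⟨M.comap (wmap P.subtype), ⟨Submodule.fg_of_fg_map_injective _ hinj (by rwa [hMP]), ?_⟩,
      r, s, hs, hμ, Submodule.map_injective_of_injective hinj ?_⟩
    · refine Submodule.map_injective_of_injective P.injective_subtype ?_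
      rw [← span_map, hMP, hsp, Submodule.map_top, Submodule.range_subtype]
    · rw [map_latImg hτ P.subtype (restrict_comm hP), map_pPow, hMP, heq]

theorem isIsoc_restrict (hτ : Twist τ) (hF : IsIsoc F) {P : Submodule K(p, k) N} (hP : ∀ x ∈ P, F x ∈ P) :
    IsIsoc (F.restrict hP) := by
  have := hF.finite
  refine ⟨inferInstance, fun a b hab => Subtype.ext (hF.bijective.injective (congrArg Subtype.val hab)), ?_⟩
  rintro ⟨x, hx⟩
  obtain ⟨y, hy, hyx⟩ := Stable.exists_preimage hτ hF.bijective.injective hP hx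
  exact ⟨⟨y, hy⟩, Subtype.ext hyx⟩

/-! ### Slope parts -/

theorem slopePart_spec (hτ : Twist τ) (hF : IsIsoc F) (μ : ℚ) :
    Stable F (slopePart F μ) ∧ IsoclinicOn F (slopePart F μ) μ := by
  have := hF.finite
  obtain ⟨P, ⟨hP, hPi⟩, hmax⟩ := set_has_maximal_iff_noetherian.2 (inferInstance : IsNoetherian K(p, k) N)
    {P : Submodule K(p, k) N | Stable F P ∧ IsoclinicOn F P μ} ⟨⊥, stable_bot, isoclinicOn_bot μ⟩
  have hEq : slopePart F μ = P := by
    refine le_antisymm (sSup_le ?_) (le_sSup ⟨hP, (isIsoclinic_restrict_iff hτ hP).2 hPi⟩)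
    rintro Q ⟨hQ, hQi⟩
    by_contra hQP
    exact hmax (P ⊔ Q) ⟨hP.sup hQ, hPi.sup hτ ((isIsoclinic_restrict_iff hτ hQ).1 hQi)⟩
      (lt_of_le_of_ne le_sup_left fun h => hQP (by rw [h]; exact le_sup_right))
  rw [hEq]
  exact ⟨hP, hPi⟩

theorem le_slopePart (hτ : Twist τ) {P : Submodule K(p, k) N} {μ : ℚ} (hP : Stable F P)
    (hPi : IsoclinicOn F P μ) : P ≤ slopePart F μ :=
  le_sSup ⟨hP, (isIsoclinic_restrict_iff hτ hP).2 hPi⟩

theorem mapQ_injective [Module.Finite K(p, k) N] (hτ : Twist τ) (hinj : Function.Injective F) {R : Submodule K(p, k) N}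
    (hR : Stable F R) : Function.Injective (R.mapQ R F fun x hx => hR x hx) := by
  rw [injective_iff_map_eq_zero]
  intro z hz
  obtain ⟨y, rfl⟩ := R.mkQ_surjective z
  rw [Submodule.mkQ_apply, Submodule.mapQ_apply, Submodule.Quotient.mk_eq_zero] at hz
  rw [Submodule.mkQ_apply, Submodule.Quotient.mk_eq_zero]
  exact hR.mem_of_iterate_mem hτ hinj 1 hz

theorem eq_bot_of_le_finsetSup (hτ : Twist τ) (hF : IsIsoc F) (S : Finset ℚ) {μ : ℚ} (hμ : μ ∉ S)
    {Q : Submodule K(p, k) N} (hQ : Stable F Q) (hQi : IsoclinicOn F Q μ)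
    (hle : Q ≤ ⨆ ν ∈ S, slopePart F ν) : Q = ⊥ := by
  classical
  have := hF.finite
  induction S using Finset.induction generalizing Q with
  | empty => simpa using hle
  | insert ν S hν ih =>
    rw [Finset.iSup_insert] at hle
    refine ih (fun h => hμ (Finset.mem_insert_of_mem h)) hQ hQi ?_
    set R := ⨆ ρ ∈ S, slopePart F ρ
    have hR : Stable F R := stable_iSup fun ρ => stable_iSup fun _ => (slopePart_spec hτ hF ρ).1
    have hcomm : ∀ x, R.mkQ (F x) = R.mapQ R F (fun x hx => hR x hx) (R.mkQ x) := fun x => rfl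
    have h0 := hom_vanish hτ (mapQ_injective hτ hF.bijective.injective hR) hQi
      ((slopePart_spec hτ hF ν).2.map hτ R.mkQ hcomm)
      (fun h => hμ (h ▸ Finset.mem_insert_self ν S)) R.mkQ hcomm ?_
    · intro x hx
      have h1 : R.mkQ x ∈ Q.map R.mkQ := Submodule.mem_map_of_mem hx
      rw [h0, Submodule.mem_bot, Submodule.mkQ_apply, Submodule.Quotient.mk_eq_zero] at h1
      exact h1
    · rintro _ ⟨x, hx, rfl⟩
      obtain ⟨a, ha, b, hb, rfl⟩ := Submodule.mem_sup.1 (hle hx)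
      rw [map_add, show R.mkQ b = 0 from (Submodule.Quotient.mk_eq_zero R).2 hb, add_zero]
      exact Submodule.mem_map_of_mem ha

theorem iSupIndep_slopePart (hτ : Twist τ) (hF : IsIsoc F) : iSupIndep (slopePart F) := by
  classical
  have := hF.finite
  intro μ
  rw [disjoint_iff]
  obtain ⟨t, ht⟩ := CompleteLattice.IsCompactElement.exists_finset_of_le_iSup _
    ((Submodule.fg_iff_compact _).1 (IsNoetherian.noetherian (slopePart F μ ⊓ ⨆ ν ≠ μ, slopePart F ν)))
    (fun ν : {ν : ℚ // ν ≠ μ} => slopePart F ν.1) (inf_le_right.trans (by rw [iSup_subtype]))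
  refine eq_bot_of_le_finsetSup hτ hF (t.image Subtype.val) (μ := μ) ?_ ?_ ?_ ?_
  · simp
  · exact fun x hx => ⟨(slopePart_spec hτ hF μ).1 x hx.1,
      stable_iSup (fun ν => stable_iSup fun _ => (slopePart_spec hτ hF ν).1) x hx.2⟩
  · exact (slopePart_spec hτ hF μ).2.sub hτ hF.bijective.injective
      (fun x hx => ⟨(slopePart_spec hτ hF μ).1 x hx.1,
        stable_iSup (fun ν => stable_iSup fun _ => (slopePart_spec hτ hF ν).1) x hx.2⟩) inf_le_left
  · refine ht.trans (iSup₂_le fun ν hν => ?_)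
    exact le_iSup₂_of_le ν.1 (Finset.mem_image_of_mem _ hν) le_rfl

/-! ### Standard isocrystals -/

section Std

variable (τ : K(p, k) →+* K(p, k)) (d : ℤ) (h : ℕ)

theorem stdIsoc_single_succ (i : Fin h) (hi : i.val + 1 < h) :
    stdIsoc τ d h (Pi.single i 1) = Pi.single ⟨i.val + 1, hi⟩ 1 := by
  obtain ⟨h, rfl⟩ : ∃ n, h = n + 1 := ⟨h - 1, by omega⟩
  have hrot : finRotate (h + 1) i = ⟨i.val + 1, hi⟩ := by
    apply Fin.ext
    rw [coe_finRotate_of_ne_last]
    exact fun hl => by simp [hl] at hi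
  ext j
  rw [stdIsoc_apply]
  rcases eq_or_ne j ⟨i.val + 1, hi⟩ with rfl | hj
  · rw [← hrot, Equiv.symm_apply_apply]
    simp [hrot]
  · have : (finRotate (h + 1)).symm j ≠ i := fun he => hj (by rw [← hrot, ← he, Equiv.apply_symm_apply])
    rw [Pi.single_eq_of_ne this, map_zero, mul_zero]
    simp [Pi.single_eq_of_ne hj]

theorem stdIsoc_single_last (i : Fin h) (hi : i.val + 1 = h) (h0 : 0 < h) :
    stdIsoc τ d h (Pi.single i 1) = (p : K(p, k)) ^ d • (Pi.single ⟨0, h0⟩ 1 : Fin h → K(p, k)) := by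
  obtain ⟨h, rfl⟩ : ∃ n, h = n + 1 := ⟨h - 1, by omega⟩
  have hrot : finRotate (h + 1) i = ⟨0, h0⟩ := by
    rw [show i = Fin.last h from Fin.ext (by simp only [Fin.val_last]; omega)]
    exact finRotate_last
  ext j
  rw [stdIsoc_apply]
  rcases eq_or_ne j ⟨0, h0⟩ with rfl | hj
  · rw [← hrot, Equiv.symm_apply_apply]
    simp [hrot]
  · have : (finRotate (h + 1)).symm j ≠ i := fun he => hj (by rw [← hrot, ← he, Equiv.apply_symm_apply])
    rw [Pi.single_eq_of_ne this, map_zero, mul_zero, Pi.smul_apply, Pi.single_eq_of_ne hj, smul_zero]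

theorem stdIsoc_iterate_zero (h0 : 0 < h) (j : ℕ) (hj : j < h) :
    (⇑(stdIsoc τ d h))^[j] (Pi.single ⟨0, h0⟩ 1) = Pi.single ⟨j, hj⟩ 1 := by
  induction j with
  | zero => rfl
  | succ j ih =>
    rw [Function.iterate_succ_apply', ih (by omega), stdIsoc_single_succ τ d h ⟨j, by omega⟩ hj]

theorem stdIsoc_iterate_self (i : Fin h) :
    (⇑(stdIsoc τ d h))^[h] (Pi.single i 1) = (p : K(p, k)) ^ d • (Pi.single i 1 : Fin h → K(p, k)) := by
  obtain ⟨h, rfl⟩ : ∃ n, h = n + 1 := ⟨h - 1, by have := i.2; omega⟩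
  have h0 : 0 < h + 1 := by omega
  have hz : (⇑(stdIsoc τ d (h + 1)))^[h + 1] (Pi.single ⟨0, h0⟩ 1) =
      (p : K(p, k)) ^ d • (Pi.single ⟨0, h0⟩ 1 : Fin (h + 1) → K(p, k)) := by
    rw [Function.iterate_succ_apply', stdIsoc_iterate_zero τ d (h + 1) h0 h (by omega),
      stdIsoc_single_last τ d (h + 1) ⟨h, by omega⟩ rfl h0]
  have hi := stdIsoc_iterate_zero τ d (h + 1) h0 i i.2
  rw [Fin.eta] at hi
  rw [← hi, ← Function.iterate_add_apply, Nat.add_comm (h + 1) i.val, Function.iterate_add_apply, hz, iterate_qsmul]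

variable {τ}

theorem isIsoc_std (hτ : Twist τ) : IsIsoc (stdIsoc τ d h) := by
  refine ⟨inferInstance, fun x y hxy => funext fun i => ?_, fun y => ?_⟩
  · have h1 := congrFun hxy (finRotate h i)
    rw [stdIsoc_apply, stdIsoc_apply, Equiv.symm_apply_apply] at h1
    refine τ.injective (mul_left_cancel₀ ?_ h1)
    split_ifs
    · exact zpow_ne_zero _ q_ne
    · exact one_ne_zero
  · choose x hx using fun i => hτ.bijective.surjective
      ((if (finRotate h i).val = 0 then (p : K(p, k)) ^ d else 1)⁻¹ * y (finRotate h i))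
    refine ⟨x, funext fun j => ?_⟩
    rw [stdIsoc_apply, hx, Equiv.apply_symm_apply, ← mul_assoc, mul_inv_cancel₀, one_mul]
    split_ifs
    · exact zpow_ne_zero _ q_ne
    · exact one_ne_zero

theorem isoclinicOn_std (hτ : Twist τ) (hh : 0 < h) :
    IsoclinicOn (stdIsoc τ d h) ⊤ ((d : ℚ) / h) := by
  let e := Pi.basisFun K(p, k) (Fin h)
  refine ⟨Submodule.span (WittVector p k) (Set.range e), Submodule.fg_span (Set.finite_range e),
    eq_top_iff.2 (e.span_eq.ge.trans (Submodule.span_mono Submodule.subset_span)), d, h, hh, rfl,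
    le_antisymm ((latImg_le_iff _).2 fun y hy => ?_) fun x hx => ?_⟩
  · induction hy using Submodule.span_induction with
    | mem z hz =>
      obtain ⟨i, rfl⟩ := hz
      rw [Pi.basisFun_apply, stdIsoc_iterate_self]
      exact smul_mem_pPow (Submodule.subset_span ⟨i, Pi.basisFun_apply K(p, k) (Fin h) i⟩)
    | zero => rw [← iter_apply, map_zero]; exact zero_mem _
    | add a b _ _ ha hb => rw [← iter_apply, map_add]; exact add_mem ha hb
    | smul w a _ ha =>
      obtain ⟨e', he'⟩ := iterate_wsmul (stdIsoc τ d h) hτ h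
      rw [he']; exact Submodule.smul_mem _ _ ha
  · obtain ⟨y, hy, rfl⟩ := (Submodule.mem_smul_pointwise_iff_exists _ _ _).1 hx
    induction hy using Submodule.span_induction with
    | mem z hz =>
      obtain ⟨i, rfl⟩ := hz
      rw [Pi.basisFun_apply, ← stdIsoc_iterate_self τ d h i]
      exact apply_mem_latImg _ (Submodule.subset_span ⟨i, Pi.basisFun_apply K(p, k) (Fin h) i⟩)
    | zero => simp
    | add a b ha hb iha ihb =>
      rw [smul_add]; exact add_mem (iha (smul_mem_pPow ha)) (ihb (smul_mem_pPow hb))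
    | smul w a ha iha => rw [smul_comm]; exact Submodule.smul_mem _ _ (iha (smul_mem_pPow ha))

end Std

end Groth.Agent.IsocLib
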