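import Groth.Prelude.Def_Isoc
import Mathlib

/-!
# Lattices in isocrystals
-/

set_option backward.isDefEq.respectTransparency false
set_option backward.isDefEq.respectTransparency.types false
set_option linter.style.haveILetI false
set_option autoImplicit false

universe u v

open scoped Pointwise Isocrystal
open Isoc

namespace Groth.Agent.IsocLib

variable {p : ℕ} [Fact p.Prime] {k : Type u} [Field k] [CharP k p] [PerfectRing k p]


/-- `τ` restricts to an automorphism of `W`. -/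
def Twist (τ : K(p, k) →+* K(p, k)) : Prop :=
  ∃ e : (WittVector p k) ≃+* (WittVector p k), ∀ w, τ (algebraMap (WittVector p k) K(p, k) w) = algebraMap (WittVector p k) K(p, k) (e w)

theorem twist_frob (a : ℤ) : Twist (frob p k a) := ⟨_, frob_algebraMap p k a⟩

theorem Twist.pow {τ : K(p, k) →+* K(p, k)} (hτ : Twist τ) (n : ℕ) : Twist (τ ^ n) := by
  obtain ⟨e, he⟩ := hτ
  refine ⟨e ^ n, fun w => ?_⟩
  induction n with
  | zero => rfl
  | succ n ih =>
    rw [pow_succ', RingHom.coe_mul, Function.comp_apply, ih, he, pow_succ']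
    rfl

theorem q_ne : (p : K(p, k)) ≠ 0 := by
  rw [← map_natCast (algebraMap (WittVector p k) K(p, k)), ne_eq, IsFractionRing.to_map_eq_zero_iff]
  exact (WittVector.irreducible p).ne_zero

theorem map_qzpow (τ : K(p, k) →+* K(p, k)) (r : ℤ) : τ ((p : K(p, k)) ^ r) = (p : K(p, k)) ^ r := by
  rw [map_zpow₀, map_natCast]

omit [PerfectRing k p] in
theorem algebraMap_p_pow (n : ℕ) : algebraMap (WittVector p k) K(p, k) ((p : (WittVector p k)) ^ n) = (p : K(p, k)) ^ (n : ℤ) := by
  rw [map_pow, map_natCast, zpow_natCast]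

theorem exists_pow_mul_mem_range (l : K(p, k)) : ∃ (n : ℕ) (w : (WittVector p k)), (p : K(p, k)) ^ (n : ℤ) * l = algebraMap (WittVector p k) K(p, k) w := by
  obtain ⟨a, b, hb, rfl⟩ := IsFractionRing.div_surjective (A := (WittVector p k)) l
  obtain ⟨m, u, rfl⟩ := WittVector.exists_eq_pow_p_mul' b (nonZeroDivisors.ne_zero hb)
  refine ⟨m, a * (↑u⁻¹ : (WittVector p k)), ?_⟩
  rw [map_mul, algebraMap_p_pow, map_mul]
  have hu : algebraMap (WittVector p k) K(p, k) (u : (WittVector p k)) * algebraMap (WittVector p k) K(p, k) (↑u⁻¹ : (WittVector p k)) = 1 := by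
    rw [← map_mul, Units.mul_inv, map_one]
  rw [← mul_div_assoc, mul_div_mul_left _ _ (zpow_ne_zero _ q_ne), div_eq_iff (by
    exact left_ne_zero_of_mul_eq_one hu)]
  linear_combination (- algebraMap (WittVector p k) K(p, k) a) * hu

theorem Twist.bijective {τ : K(p, k) →+* K(p, k)} (hτ : Twist τ) : Function.Bijective τ := by
  refine ⟨τ.injective, fun l => ?_⟩
  obtain ⟨e, he⟩ := hτ
  obtain ⟨n, w, hw⟩ := exists_pow_mul_mem_range l
  refine ⟨(p : K(p, k)) ^ (-(n : ℤ)) * algebraMap (WittVector p k) K(p, k) (e.symm w), ?_⟩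
  rw [map_mul, map_qzpow, he, RingEquiv.apply_symm_apply, ← hw, ← mul_assoc, ← zpow_add₀ q_ne]
  simp

variable {N : Type v} [AddCommGroup N] [Module (WittVector p k) N] [Module K(p, k) N] [IsScalarTower (WittVector p k) K(p, k) N]

theorem qpow_smul (n : ℕ) (x : N) : (p : K(p, k)) ^ (n : ℤ) • x = ((p : (WittVector p k)) ^ n) • x := by
  rw [← algebraMap_smul K(p, k) ((p : (WittVector p k)) ^ n) x, algebraMap_p_pow]

theorem qzpow_smul_smul (r s : ℤ) (x : N) : (p : K(p, k)) ^ r • (p : K(p, k)) ^ s • x = (p : K(p, k)) ^ (r + s) • x := by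
  rw [smul_smul, zpow_add₀ q_ne]

theorem mem_pPow {r : ℤ} {M : Submodule (WittVector p k) N} {x : N} : x ∈ pPow r M ↔ (p : K(p, k)) ^ (-r) • x ∈ M := by
  refine ⟨fun h => ?_, fun h => ?_⟩
  · obtain ⟨y, hy, rfl⟩ := (Submodule.mem_smul_pointwise_iff_exists _ _ _).1 h
    rwa [qzpow_smul_smul, neg_add_cancel, zpow_zero, one_smul]
  · refine (Submodule.mem_smul_pointwise_iff_exists _ _ _).2 ⟨_, h, ?_⟩
    rw [qzpow_smul_smul, add_neg_cancel, zpow_zero, one_smul]

theorem smul_mem_pPow {r : ℤ} {M : Submodule (WittVector p k) N} {x : N} (h : x ∈ M) : (p : K(p, k)) ^ r • x ∈ pPow r M :=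
  Submodule.smul_mem_pointwise_smul x ((p : K(p, k)) ^ r) M h

@[simp] theorem pPow_zero (M : Submodule (WittVector p k) N) : pPow 0 M = M := by
  ext x; simp [mem_pPow]

theorem pPow_pPow (r s : ℤ) (M : Submodule (WittVector p k) N) : pPow r (pPow s M) = pPow (r + s) M := by
  ext x
  rw [mem_pPow, mem_pPow, mem_pPow, qzpow_smul_smul, neg_add, add_comm]

theorem pPow_mono (r : ℤ) {M M' : Submodule (WittVector p k) N} (h : M ≤ M') : pPow r M ≤ pPow r M' :=
  fun _ hx => mem_pPow.2 (h (mem_pPow.1 hx))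

theorem pPow_le_pPow_iff {r : ℤ} {M M' : Submodule (WittVector p k) N} : pPow r M ≤ pPow r M' ↔ M ≤ M' := by
  refine ⟨fun h => ?_, pPow_mono r⟩
  have := pPow_mono (-r) h
  rwa [pPow_pPow, pPow_pPow, neg_add_cancel, pPow_zero, pPow_zero] at this

theorem pPow_anti {r r' : ℤ} (h : r ≤ r') (M : Submodule (WittVector p k) N) : pPow r' M ≤ pPow r M := by
  intro x hx
  obtain ⟨n, rfl⟩ := Int.le.dest h
  rw [mem_pPow] at hx ⊢
  have h2 : (p : K(p, k)) ^ (-r) • x = (p : K(p, k)) ^ (n : ℤ) • (p : K(p, k)) ^ (-(r + n)) • x := by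
    rw [qzpow_smul_smul]; congr 2; ring
  rw [h2, qpow_smul]
  exact M.smul_mem _ hx

theorem pPow_sup (r : ℤ) (M M' : Submodule (WittVector p k) N) : pPow r (M ⊔ M') = pPow r M ⊔ pPow r M' :=
  Submodule.smul_sup' _ _ _

theorem pPow_fg (r : ℤ) {M : Submodule (WittVector p k) N} (h : M.FG) : (pPow r M).FG :=
  h.map _

theorem pPow_bot (r : ℤ) : pPow r (⊥ : Submodule (WittVector p k) N) = ⊥ := Submodule.smul_bot' _

/-! ### Iterates of a semilinear map -/

variable {τ : K(p, k) →+* K(p, k)} (F : N →ₛₗ[τ] N)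

theorem iterate_smul (n : ℕ) (c : K(p, k)) (x : N) : (⇑F)^[n] (c • x) = (τ ^ n) c • (⇑F)^[n] x :=
  (iter F n).map_smulₛₗ c x

theorem iterate_qsmul (n : ℕ) (r : ℤ) (x : N) : (⇑F)^[n] ((p : K(p, k)) ^ r • x) = (p : K(p, k)) ^ r • (⇑F)^[n] x := by
  rw [iterate_smul, map_qzpow]

theorem latImg_le_iff {s : ℕ} {M T : Submodule (WittVector p k) N} : latImg F s M ≤ T ↔ ∀ y ∈ M, (⇑F)^[s] y ∈ T := by
  simp only [latImg, Submodule.span_le, Set.image_subset_iff]
  exact Iff.rfl

theorem apply_mem_latImg {s : ℕ} {M : Submodule (WittVector p k) N} {y : N} (hy : y ∈ M) :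
    (⇑F)^[s] y ∈ latImg F s M := Submodule.subset_span ⟨y, hy, rfl⟩

theorem latImg_mono (s : ℕ) {M M' : Submodule (WittVector p k) N} (h : M ≤ M') : latImg F s M ≤ latImg F s M' :=
  (latImg_le_iff F).2 fun _ hy => apply_mem_latImg F (h hy)

theorem iterate_wsmul (hτ : Twist τ) (n : ℕ) :
    ∃ e : (WittVector p k) ≃+* (WittVector p k), ∀ (w : (WittVector p k)) (x : N), (⇑F)^[n] (w • x) = e w • (⇑F)^[n] x := by
  obtain ⟨e, he⟩ := hτ.pow n
  refine ⟨e, fun w x => ?_⟩
  rw [← algebraMap_smul K(p, k) w x, iterate_smul, he, algebraMap_smul]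

variable {F}

theorem mem_latImg (hτ : Twist τ) {s : ℕ} {M : Submodule (WittVector p k) N} {x : N} :
    x ∈ latImg F s M ↔ ∃ y ∈ M, (⇑F)^[s] y = x := by
  refine ⟨fun h => ?_, by rintro ⟨y, hy, rfl⟩; exact apply_mem_latImg F hy⟩
  obtain ⟨e, he⟩ := iterate_wsmul F hτ s
  induction h using Submodule.span_induction with
  | mem z hz => exact hz
  | zero => exact ⟨0, zero_mem _, map_zero (iter F s)⟩
  | add a b _ _ ha hb =>
    obtain ⟨a, hA, rfl⟩ := ha
    obtain ⟨b, hB, rfl⟩ := hb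
    exact ⟨a + b, add_mem hA hB, map_add (iter F s) a b⟩
  | smul w a _ ha =>
    obtain ⟨a, hA, rfl⟩ := ha
    exact ⟨e.symm w • a, M.smul_mem _ hA, by rw [he, RingEquiv.apply_symm_apply]⟩

theorem latImg_zero (hτ : Twist τ) (M : Submodule (WittVector p k) N) : latImg F 0 M = M := by
  ext x; simp [mem_latImg hτ]

theorem latImg_latImg (hτ : Twist τ) (a b : ℕ) (M : Submodule (WittVector p k) N) :
    latImg F a (latImg F b M) = latImg F (a + b) M := by
  ext x
  simp only [mem_latImg hτ, Function.iterate_add_apply]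
  aesop

theorem latImg_pPow (hτ : Twist τ) (s : ℕ) (r : ℤ) (M : Submodule (WittVector p k) N) :
    latImg F s (pPow r M) = pPow r (latImg F s M) := by
  ext x
  rw [mem_pPow, mem_latImg hτ, mem_latImg hτ]
  constructor
  · rintro ⟨y, hy, rfl⟩
    exact ⟨_, mem_pPow.1 hy, iterate_qsmul F s _ _⟩
  · rintro ⟨y, hy, h⟩
    refine ⟨(p : K(p, k)) ^ r • y, smul_mem_pPow hy, ?_⟩
    rw [iterate_qsmul, h, qzpow_smul_smul, add_neg_cancel, zpow_zero, one_smul]

theorem latImg_sup (s : ℕ) (M M' : Submodule (WittVector p k) N) :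
    latImg F s (M ⊔ M') = latImg F s M ⊔ latImg F s M' := by
  refine le_antisymm ((latImg_le_iff F).2 fun y hy => ?_)
    (sup_le (latImg_mono F s le_sup_left) (latImg_mono F s le_sup_right))
  obtain ⟨a, ha, b, hb, rfl⟩ := Submodule.mem_sup.1 hy
  rw [show (⇑F)^[s] (a + b) = (⇑F)^[s] a + (⇑F)^[s] b from map_add (iter F s) a b]
  exact add_mem (Submodule.mem_sup_left (apply_mem_latImg F ha))
    (Submodule.mem_sup_right (apply_mem_latImg F hb))

theorem latImg_fg (hτ : Twist τ) (s : ℕ) {M : Submodule (WittVector p k) N} (h : M.FG) : (latImg F s M).FG := by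
  classical
  obtain ⟨t, rfl⟩ := h
  obtain ⟨e, he⟩ := iterate_wsmul F hτ s
  refine ⟨t.image (⇑F)^[s], le_antisymm (Submodule.span_le.2 ?_) ((latImg_le_iff F).2 fun y hy => ?_)⟩
  · intro z hz
    obtain ⟨y, hy, rfl⟩ := Finset.mem_image.1 hz
    exact apply_mem_latImg F (Submodule.subset_span hy)
  · induction hy using Submodule.span_induction with
    | mem z hz => exact Submodule.subset_span (Finset.mem_image_of_mem _ hz)
    | zero => rw [show (⇑F)^[s] 0 = 0 from map_zero (iter F s)]; exact zero_mem _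
    | add a b _ _ ha hb =>
      rw [show (⇑F)^[s] (a + b) = (⇑F)^[s] a + (⇑F)^[s] b from map_add (iter F s) a b]
      exact add_mem ha hb
    | smul w a _ ha => rw [he]; exact Submodule.smul_mem _ _ ha

/-! ### Comparison of lattices -/

theorem exists_qpow_smul_mem {T : Submodule (WittVector p k) N} {x : N} (hx : x ∈ Submodule.span K(p, k) (T : Set N)) :
    ∃ n : ℕ, (p : K(p, k)) ^ (n : ℤ) • x ∈ T := by
  have hup : ∀ {y : N} {n m : ℕ}, n ≤ m → (p : K(p, k)) ^ (n : ℤ) • y ∈ T → (p : K(p, k)) ^ (m : ℤ) • y ∈ T := by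
    intro y n m hnm hy
    obtain ⟨d, rfl⟩ := Nat.le.dest hnm
    rw [Nat.cast_add, add_comm, ← qzpow_smul_smul, qpow_smul]
    exact T.smul_mem _ hy
  induction hx using Submodule.span_induction with
  | mem z hz => exact ⟨0, by simpa using hz⟩
  | zero => exact ⟨0, by simp⟩
  | add a b _ _ ha hb =>
    obtain ⟨n, hn⟩ := ha
    obtain ⟨m, hm⟩ := hb
    exact ⟨max n m, by rw [smul_add]; exact add_mem (hup (le_max_left _ _) hn) (hup (le_max_right _ _) hm)⟩
  | smul l a _ ha =>
    obtain ⟨n, hn⟩ := ha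
    obtain ⟨m, w, hw⟩ := exists_pow_mul_mem_range l
    refine ⟨n + m, ?_⟩
    rw [Nat.cast_add, ← qzpow_smul_smul, smul_smul ((p : K(p, k)) ^ (m : ℤ)), hw, smul_comm, algebraMap_smul]
    exact T.smul_mem _ hn

theorem exists_pPow_le {M T : Submodule (WittVector p k) N} (hM : M.FG)
    (h : (M : Set N) ⊆ Submodule.span K(p, k) (T : Set N)) : ∃ c : ℕ, pPow (c : ℤ) M ≤ T := by
  classical
  obtain ⟨t, rfl⟩ := hM
  choose n hn using fun x : t => exists_qpow_smul_mem (h (Submodule.subset_span x.2))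
  refine ⟨Finset.univ.sup n, fun x hx => ?_⟩
  obtain ⟨y, hy, rfl⟩ := (Submodule.mem_smul_pointwise_iff_exists _ _ _).1 hx
  induction hy using Submodule.span_induction with
  | mem z hz =>
    obtain ⟨d, hd⟩ := Nat.le.dest (Finset.le_sup (f := n) (Finset.mem_univ ⟨z, hz⟩))
    rw [← hd, Nat.cast_add, add_comm, ← qzpow_smul_smul, qpow_smul]
    exact T.smul_mem _ (hn ⟨z, hz⟩)
  | zero => simp
  | add a b ha hb iha ihb =>
    rw [smul_add]
    exact add_mem (iha (smul_mem_pPow ha)) (ihb (smul_mem_pPow hb))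
  | smul w a ha iha =>
    rw [smul_comm]
    exact T.smul_mem _ (iha (smul_mem_pPow ha))

theorem eq_bot_of_le_pPow {T : Submodule (WittVector p k) N} (hT : T.FG) {r : ℤ} (hr : 1 ≤ r) (h : T ≤ pPow r T) :
    T = ⊥ := by
  refine Submodule.eq_bot_of_le_smul_of_le_jacobson_bot (Ideal.span {(p : (WittVector p k))}) T hT (fun x hx => ?_) ?_
  · obtain ⟨y, hy, rfl⟩ := (Submodule.mem_smul_pointwise_iff_exists _ _ _).1 (pPow_anti hr T (h hx))
    rw [show ((1 : ℤ)) = ((1 : ℕ) : ℤ) from rfl, qpow_smul, pow_one]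
    exact Submodule.smul_mem_smul (Ideal.mem_span_singleton_self _) hy
  · rw [IsLocalRing.jacobson_eq_maximalIdeal ⊥ bot_ne_top, Ideal.span_le, Set.singleton_subset_iff]
    exact (IsLocalRing.mem_maximalIdeal _).2 (WittVector.irreducible p).not_isUnit

theorem eq_zero_of_forall_mem {M : Submodule (WittVector p k) N} (hM : M.FG) {x : N}
    (h : ∀ n : ℕ, x ∈ pPow (n : ℤ) M) : x = 0 := by
  let I : Submodule (WittVector p k) N := ⨅ n : ℕ, pPow (n : ℤ) M
  have hI : I.FG := by
    have : IsNoetherian (WittVector p k) M := isNoetherian_of_fg_of_noetherian M hM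
    exact Submodule.FG.of_le hM ((iInf_le _ 0).trans_eq (by simp))
  have hb : I = ⊥ := eq_bot_of_le_pPow hI le_rfl fun y hy => mem_pPow.2 ((Submodule.mem_iInf _).2 fun n => by
    rw [mem_pPow, qzpow_smul_smul]
    have := mem_pPow.1 ((Submodule.mem_iInf _).1 hy (n + 1))
    rwa [show -((n : ℤ)) + -1 = -((n + 1 : ℕ) : ℤ) by push_cast; ring])
  exact (Submodule.mem_bot (WittVector p k)).1 (hb ▸ (Submodule.mem_iInf _).2 h)

theorem isLattice_pPow (r : ℤ) (M : Submodule (WittVector p k) N) [hM : M.IsLattice K(p, k)] : (pPow r M).IsLattice K(p, k) :=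
  Submodule.IsLattice.smul K(p, k) M (Units.mk0 ((p : K(p, k)) ^ r) (zpow_ne_zero _ q_ne))

theorem isLattice_latImg (hτ : Twist τ) (hF : Function.Bijective F) (s : ℕ) (M : Submodule (WittVector p k) N)
    [hM : M.IsLattice K(p, k)] : (latImg F s M).IsLattice K(p, k) := by
  refine ⟨latImg_fg hτ s hM.fg, eq_top_iff.2 fun x hx => ?_⟩
  clear hx
  obtain ⟨y, rfl⟩ := hF.surjective.iterate s x
  have hy : y ∈ Submodule.span K(p, k) (M : Set N) := by
    rw [Submodule.IsLattice.span_eq_top]; trivial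
  induction hy using Submodule.span_induction with
  | mem z hz => exact Submodule.subset_span (apply_mem_latImg F hz)
  | zero => rw [show (⇑F)^[s] 0 = 0 from map_zero (iter F s)]; exact zero_mem _
  | add a b _ _ ha hb =>
    rw [show (⇑F)^[s] (a + b) = (⇑F)^[s] a + (⇑F)^[s] b from map_add (iter F s) a b]
    exact add_mem ha hb
  | smul l a _ ha => rw [iterate_smul]; exact Submodule.smul_mem _ _ ha

theorem exists_pPow_le_lattice (M M' : Submodule (WittVector p k) N) [hM : M.IsLattice K(p, k)] [hM' : M'.IsLattice K(p, k)] :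
    ∃ c : ℕ, pPow (c : ℤ) M ≤ M' :=
  exists_pPow_le hM.fg (by rw [Submodule.IsLattice.span_eq_top]; exact Set.subset_univ _)

theorem exists_isLattice [Module.Finite K(p, k) N] : ∃ M : Submodule (WittVector p k) N, M.IsLattice K(p, k) := by
  let b := Module.Free.chooseBasis K(p, k) N
  refine ⟨Submodule.span (WittVector p k) (Set.range b), ⟨Submodule.fg_span (Set.finite_range b), eq_top_iff.2 ?_⟩⟩
  rw [← b.span_eq]
  exact Submodule.span_mono Submodule.subset_span

end Groth.Agent.IsocLib
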