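import Groth.Agent.IsocLib.Closed

/-!
# Dieudonné–Manin classification
-/

set_option backward.isDefEq.respectTransparency false
set_option backward.isDefEq.respectTransparency.types false
set_option linter.style.haveILetI false
set_option linter.unusedSectionVars false
set_option autoImplicit false

universe u v

open scoped Pointwise Isocrystal
open Isoc Module

namespace Groth.Agent.IsocLib

variable {p : ℕ} [Fact p.Prime] {k : Type u} [Field k] [CharP k p] [PerfectRing k p]
variable {N : Type v} [AddCommGroup N] [Module (WittVector p k) N] [Module K(p, k) N] [IsScalarTower (WittVector p k) K(p, k) N]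

theorem std_simple {τ : K(p, k) →+* K(p, k)} (hτ : Twist τ) (d : ℤ) {h : ℕ} (hh : 0 < h) (hdh : Int.gcd d h = 1)
    {P : Submodule K(p, k) (Fin h → K(p, k))} (hP : Stable (stdIsoc τ d h) P) : P = ⊥ ∨ P = ⊤ := by
  have hF := isIsoc_std (p := p) (k := k) d h hτ
  have hPi := (isoclinicOn_std d h hτ hh).sub hτ hF.bijective.injective hP le_top
  obtain ⟨M, hM, r, s, hs, hμ, heq⟩ := (isIsoclinic_restrict_iff hτ hP).2 hPi
  let b := finBasis K(p, k) P
  obtain ⟨d', hd'⟩ := exists_isOrdP_det hτ b (isIsoc_restrict hτ hF hP).bijective.injective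
  have h1 := det_of_eq hτ b hd' heq
  have h2 := (exponents_eq (μ₁ := (d : ℚ) / h) hs hh hμ rfl).2 rfl
  set n := finrank K(p, k) P with hn
  have h3 : (h : ℤ) * d' = d * n :=
    mul_left_cancel₀ (show (s : ℤ) ≠ 0 by exact_mod_cast hs.ne') (by
      linear_combination (-(h : ℤ)) * h1 + (n : ℤ) * h2)
  have h5 : (h : ℤ) ∣ (n : ℤ) :=
    Int.dvd_of_dvd_mul_right_of_gcd_one ⟨d', h3.symm⟩ (by rw [Int.gcd_comm]; exact hdh)
  have h6 : n ≤ h := (Submodule.finrank_le P).trans_eq (Module.finrank_fin_fun _)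
  rcases Nat.eq_zero_or_pos n with h0 | h0
  · exact Or.inl (Submodule.finrank_eq_zero.1 h0)
  · refine Or.inr (Submodule.eq_top_of_finrank_eq ?_)
    rw [Module.finrank_fin_fun]
    exact le_antisymm h6 (Nat.le_of_dvd h0 (by exact_mod_cast h5))

variable {τ : K(p, k) →+* K(p, k)} {F : N →ₛₗ[τ] N}

/-- An embedding of a standard isocrystal. -/
structure SimpleSub (F : N →ₛₗ[τ] N) where
  d : ℤ
  h : ℕ
  pos : 0 < h
  coprime : Int.gcd d h = 1
  emb : (Fin h → K(p, k)) →ₗ[K(p, k)] N
  comm : ∀ x, emb (stdIsoc τ d h x) = F (emb x)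
  inj : Function.Injective emb

theorem SimpleSub.stable (s : SimpleSub F) : Stable F (LinearMap.range s.emb) := by
  rintro _ ⟨x, rfl⟩
  exact ⟨_, s.comm x⟩

theorem SimpleSub.le_slopePart (hτ : Twist τ) (s : SimpleSub F) :
    LinearMap.range s.emb ≤ slopePart F ((s.d : ℚ) / s.h) := by
  refine Groth.Agent.IsocLib.le_slopePart hτ s.stable ?_
  have := (isoclinicOn_std s.d s.h hτ s.pos).map hτ s.emb s.comm
  rwa [Submodule.map_top] at this

theorem SimpleSub.inf_eq_bot (hτ : Twist τ) (s : SimpleSub F) {R : Submodule K(p, k) N} (hR : Stable F R)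
    (hne : ¬ LinearMap.range s.emb ≤ R) : LinearMap.range s.emb ⊓ R = ⊥ := by
  have hst : Stable (stdIsoc τ s.d s.h) (R.comap s.emb) := fun x hx => by
    rw [Submodule.mem_comap, s.comm]; exact hR _ hx
  rcases std_simple hτ s.d s.pos s.coprime hst with h | h
  · rw [← Submodule.map_comap_eq, h, Submodule.map_bot]
  · exact absurd (by rintro _ ⟨x, rfl⟩; exact (h ▸ Submodule.mem_top : x ∈ R.comap s.emb)) hne

theorem orbit_comm {x : N} {d : ℤ} {h : ℕ} (hh : 0 < h) (hx : (⇑F)^[h] x = (p : K(p, k)) ^ d • x) (v : Fin h → K(p, k)) :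
    Fintype.linearCombination K(p, k) (fun i : Fin h => (⇑F)^[i.val] x) (stdIsoc τ d h v) =
      F (Fintype.linearCombination K(p, k) (fun i : Fin h => (⇑F)^[i.val] x) v) := by
  obtain ⟨h, rfl⟩ : ∃ n, h = n + 1 := ⟨h - 1, by omega⟩
  simp only [Fintype.linearCombination_apply, map_sum, F.map_smulₛₗ, stdIsoc_apply]
  rw [← Equiv.sum_comp (finRotate (h + 1))]
  refine Finset.sum_congr rfl fun i _ => ?_
  rw [Equiv.symm_apply_apply, ← Function.iterate_succ_apply' (⇑F) i.val x]
  rcases eq_or_ne i (Fin.last h) with rfl | hi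
  · rw [finRotate_last]
    simp only [Fin.val_zero, if_true, Fin.val_last, Function.iterate_zero, id, Nat.succ_eq_add_one]
    rw [hx, smul_smul, mul_comm]
  · rw [coe_finRotate_of_ne_last hi, if_neg (by omega), one_mul]

theorem iSup_simpleSub [IsAlgClosed k] {a : ℤ} (ha : a ≠ 0) {F : N →ₛₗ[frob p k a] N} (hF : IsIsoc F) :
    ⨆ s : SimpleSub F, LinearMap.range s.emb = ⊤ := by
  have hτ := twist_frob (p := p) (k := k) a
  have := hF.finite
  rw [eq_top_iff, ← iSup_slopePart hτ hF]
  refine iSup_le fun μ => ?_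
  obtain ⟨hP, hPi⟩ := slopePart_spec hτ hF μ
  obtain ⟨M, hM, r, s, hs, hμ, heq⟩ := (isIsoclinic_restrict_iff hτ hP).2 hPi
  set d := μ.num with hd
  set h := μ.den with hh
  have hh0 : 0 < h := μ.den_pos
  have hrd : r * h = d * s := (exponents_eq hs hh0 hμ (Rat.num_div_den μ)).2 rfl
  have hdvd : (h : ℤ) ∣ (s : ℤ) := by
    refine Int.dvd_of_dvd_mul_right_of_gcd_one ⟨r, ?_⟩ (by
      rw [Int.gcd_comm]; exact μ.reduced)
    linear_combination -hrd
  obtain ⟨t, rfl⟩ : h ∣ s := by exact_mod_cast hdvd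
  have hr : r = d * t := by
    refine mul_right_cancel₀ (show (h : ℤ) ≠ 0 by exact_mod_cast hh0.ne') ?_
    push_cast at hrd
    linear_combination hrd
  have ht : 0 < t := Nat.pos_of_mul_pos_left (by rwa [mul_comm] at hs) |>.trans_le le_rfl
  obtain ⟨t, rfl⟩ : ∃ n, t = n + 1 := ⟨t - 1, by omega⟩
  set FP := F.restrict hP with hFP
  have hFPi : IsIsoc FP := isIsoc_restrict hτ hF hP
  set G := (p : K(p, k)) ^ (-d) • iter FP h with hG
  have hGτ := hτ.pow h
  let M' : Submodule (WittVector p k) (slopePart F μ) := (Finset.range (t + 1)).sup fun i => latImg G i M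
  have hGi := isIsoc_twisted hFPi (-d) h
  have := isLattice_finsetSup hGτ hGi.bijective M t
  have hGt : latImg G (t + 1) M = M := by
    rw [hG, twisted_latImg hτ, heq, pPow_pPow, hr]
    simp
  have hGM' : latImg G 1 M' = M' := by
    have hmap : latImg G 1 M' = (Finset.range (t + 1)).sup fun i => latImg G (i + 1) M := by
      rw [latImg_finsetSup]
      exact Finset.sup_congr rfl fun i _ => by rw [latImg_latImg hGτ, add_comm]
    rw [hmap]
    refine le_antisymm (Finset.sup_le fun i hi => ?_) (Finset.sup_le fun i hi => ?_)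
    · rcases Nat.lt_succ_iff_lt_or_eq.1 (Finset.mem_range.1 hi) with h' | rfl
      · exact Finset.le_sup (f := fun i => latImg G i M) (Finset.mem_range.2 (by omega))
      · rw [hGt]
        exact le_of_eq_of_le (latImg_zero hGτ M).symm
          (Finset.le_sup (f := fun i => latImg G i M) (Finset.mem_range.2 (by omega)))
    · rcases i with - | i
      · rw [latImg_zero hGτ]
        exact le_of_eq_of_le hGt.symm
          (Finset.le_sup (f := fun i => latImg G (i + 1) M) (Finset.mem_range.2 (by omega)))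
      · exact Finset.le_sup (f := fun i => latImg G (i + 1) M) (Finset.mem_range.2 (by
          rw [Finset.mem_range] at hi; omega))
  obtain ⟨ρ, hres, h2, h3, hρ⟩ := exists_resTwist (p := p) (k := k) a ha h hh0
  have hfix := span_fixed_of_latImg_eq hres h2 h3 hρ G M' hGM'
  intro y hy
  have hy' : (⟨y, hy⟩ : slopePart F μ) ∈ Submodule.span K(p, k) {x | G x = x} := hfix ▸ Submodule.mem_top
  have hmem := Submodule.mem_map_of_mem (f := (slopePart F μ).subtype) hy'
  rw [Submodule.map_span] at hmem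
  refine Submodule.span_le.2 ?_ hmem
  rintro _ ⟨x, hx, rfl⟩
  have hxN : (⇑F)^[h] (x : N) = (p : K(p, k)) ^ d • (x : N) := by
    have h4 : (p : K(p, k)) ^ (-d) • (⇑F)^[h] (x : N) = (x : N) := by
      have h5 := congrArg (slopePart F μ).subtype (hx : G x = x)
      rwa [hG, LinearMap.smul_apply, map_smul, iter_apply, map_iterate _ (restrict_comm hP)] at h5
    conv_rhs => rw [← h4, qzpow_smul_smul, add_neg_cancel, zpow_zero, one_smul]
  by_cases hx0 : (x : N) = 0
  · rw [Submodule.coe_subtype, hx0]; exact zero_mem _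
  set f := Fintype.linearCombination K(p, k) (fun i : Fin h => (⇑F)^[i.val] (x : N)) with hf
  have hcomm := orbit_comm (τ := frob p k a) hh0 hxN
  have hf0 : f (Pi.single ⟨0, hh0⟩ 1) = x := by
    rw [hf, Fintype.linearCombination_apply_single, one_smul]; rfl
  have hgcd : Int.gcd d h = 1 := μ.reduced
  have hinj : Function.Injective f := by
    rw [← LinearMap.ker_eq_bot]
    have hst : Stable (stdIsoc (frob p k a) d h) (LinearMap.ker f) := fun v hv => by
      rw [LinearMap.mem_ker] at hv ⊢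
      rw [hf, hcomm, ← hf, hv, map_zero]
    refine (std_simple hτ d hh0 hgcd hst).resolve_right fun htop => hx0 ?_
    rw [← hf0]
    exact LinearMap.mem_ker.1 (htop ▸ Submodule.mem_top)
  exact Submodule.mem_iSup_of_mem (⟨d, h, hh0, hgcd, f, hcomm, hinj⟩ : SimpleSub F) ⟨_, hf0⟩

/-- Complements exist. -/
theorem exists_compl [IsAlgClosed k] {a : ℤ} (ha : a ≠ 0) {F : N →ₛₗ[frob p k a] N} (hF : IsIsoc F)
    {P : Submodule K(p, k) N} (hP : Stable F P) : ∃ Q, Stable F Q ∧ IsCompl P Q := by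
  have := hF.finite
  have hτ := twist_frob (p := p) (k := k) a
  obtain ⟨Q, ⟨hQ, hPQ⟩, hmax⟩ := set_has_maximal_iff_noetherian.2 (inferInstance : IsNoetherian K(p, k) N)
    {Q : Submodule K(p, k) N | Stable F Q ∧ P ⊓ Q = ⊥} ⟨⊥, stable_bot, inf_bot_eq _⟩
  refine ⟨Q, hQ, disjoint_iff.2 hPQ, codisjoint_iff.2 (eq_top_iff.2 ?_)⟩
  rw [← iSup_simpleSub ha hF]
  refine iSup_le fun s => ?_
  by_contra hne
  have hbot := s.inf_eq_bot hτ (hP.sup hQ) hne
  refine hmax (Q ⊔ LinearMap.range s.emb) ⟨hQ.sup s.stable, ?_⟩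
    (lt_of_le_of_ne le_sup_left fun h => hne (le_trans le_sup_right (le_of_eq_of_le h.symm le_sup_right)))
  refine (Submodule.eq_bot_iff _).2 fun x hx => ?_
  obtain ⟨a', ha', c, hc, rfl⟩ := Submodule.mem_sup.1 hx.2
  have hc0 : c ∈ LinearMap.range s.emb ⊓ (P ⊔ Q) := by
    refine ⟨hc, ?_⟩
    have := sub_mem (Submodule.mem_sup_left (T := Q) hx.1) (Submodule.mem_sup_right (S := P) ha')
    rwa [add_sub_cancel_left] at this
  rw [hbot, Submodule.mem_bot] at hc0
  subst hc0
  rw [add_zero] at hx ⊢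
  have : a' ∈ P ⊓ Q := ⟨hx.1, ha'⟩
  rwa [hPQ, Submodule.mem_bot] at this

/-- The map out of a finite product of standard isocrystals. -/
noncomputable def sumEmb {t : ℕ} (S : Fin t → SimpleSub F) : ((i : Fin t) → (Fin (S i).h → K(p, k))) →ₗ[K(p, k)] N :=
  ∑ i, (S i).emb ∘ₗ LinearMap.proj i

theorem sumEmb_apply {t : ℕ} (S : Fin t → SimpleSub F) (v : (i : Fin t) → (Fin (S i).h → K(p, k))) :
    sumEmb S v = ∑ i, (S i).emb (v i) := by
  simp [sumEmb]

theorem sumEmb_comm {t : ℕ} (S : Fin t → SimpleSub F) (v : (i : Fin t) → (Fin (S i).h → K(p, k))) :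
    sumEmb S (fun i => stdIsoc τ (S i).d (S i).h (v i)) = F (sumEmb S v) := by
  simp only [sumEmb_apply, map_sum, SimpleSub.comm]

theorem exists_decomposition [IsAlgClosed k] {a : ℤ} (ha : a ≠ 0) {F : N →ₛₗ[frob p k a] N} (hF : IsIsoc F) :
    ∃ (t : ℕ) (S : Fin t → SimpleSub F), Function.Bijective (sumEmb S) := by
  classical
  have := hF.finite
  have hτ := twist_frob (p := p) (k := k) a
  obtain ⟨Q, ⟨t, S, hinj, rfl⟩, hmax⟩ := set_has_maximal_iff_noetherian.2 (inferInstance : IsNoetherian K(p, k) N)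
    {Q : Submodule K(p, k) N | ∃ (t : ℕ) (S : Fin t → SimpleSub F), Function.Injective (sumEmb S) ∧
      LinearMap.range (sumEmb S) = Q}
    ⟨⊥, 0, Fin.elim0, fun x y _ => funext fun i => i.elim0, eq_bot_iff.2 (by
      rintro _ ⟨v, rfl⟩; simp [sumEmb_apply])⟩
  refine ⟨t, S, hinj, LinearMap.range_eq_top.1 (eq_top_iff.2 ?_)⟩
  rw [← iSup_simpleSub ha hF]
  refine iSup_le fun s => ?_
  by_contra hne
  have hst : Stable F (LinearMap.range (sumEmb S)) := by
    rintro _ ⟨v, rfl⟩
    exact ⟨_, sumEmb_comm S v⟩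
  have hbot := s.inf_eq_bot hτ hst hne
  let S' : Fin (t + 1) → SimpleSub F := Fin.cons s S
  have hsplit : ∀ v, sumEmb S' v = s.emb (v 0) + sumEmb S (fun i => v i.succ) := fun v => by
    rw [sumEmb_apply, Fin.sum_univ_succ, sumEmb_apply]
    rfl
  have hinj' : Function.Injective (sumEmb S') := by
    rw [injective_iff_map_eq_zero]
    intro v hv
    rw [hsplit] at hv
    have h1 : s.emb (v 0) ∈ LinearMap.range s.emb ⊓ LinearMap.range (sumEmb S) :=
      ⟨⟨_, rfl⟩, by rw [eq_neg_of_add_eq_zero_left hv]; exact neg_mem ⟨_, rfl⟩⟩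
    rw [hbot, Submodule.mem_bot] at h1
    rw [h1, zero_add] at hv
    have h2 := hinj (hv.trans (map_zero _).symm)
    funext i
    induction i using Fin.cases with
    | zero => exact s.inj (h1.trans (map_zero _).symm)
    | succ i => exact congrFun h2 i
  refine hmax _ ⟨t + 1, S', hinj', rfl⟩ (lt_of_le_of_ne ?_ ?_)
  · rintro _ ⟨v, rfl⟩
    refine ⟨Fin.cases 0 v, ?_⟩
    rw [hsplit]
    simp
  · intro heq
    refine hne fun x hx => ?_
    obtain ⟨w, rfl⟩ := hx
    rw [heq]
    refine ⟨Fin.cases w 0, ?_⟩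
    rw [hsplit]
    exact add_eq_left.2 (map_zero (sumEmb S))

theorem newtonMult_eq_sum (hτ : Twist τ) (hF : IsIsoc F) {t : ℕ} (S : Fin t → SimpleSub F)
    (hS : Function.Bijective (sumEmb S)) (μ : ℚ) :
    newtonMult F μ = ∑ i, (if ((S i).d : ℚ) / (S i).h = μ then (S i).h else 0) := by
  classical
  let P : Fin t → Prop := fun i => ((S i).d : ℚ) / (S i).h = μ
  let E : ((i : {i // P i}) → (Fin (S i.1).h → K(p, k))) →ₗ[K(p, k)] ((i : Fin t) → (Fin (S i).h → K(p, k))) :=
    LinearMap.pi fun i => if h : P i then LinearMap.proj (⟨i, h⟩ : {i // P i}) else 0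
  have hEinj : Function.Injective E := fun x y hxy => funext fun i => by
    have := congrFun hxy i.1
    simp only [E, LinearMap.pi_apply, dif_pos i.2] at this
    exact this
  let R := LinearMap.range (sumEmb S ∘ₗ E)
  let R' := ⨆ (ν : ℚ) (_ : ν ≠ μ), slopePart F ν
  have hRle : R ≤ slopePart F μ := by
    rintro _ ⟨x, rfl⟩
    rw [LinearMap.comp_apply, sumEmb_apply]
    refine Submodule.sum_mem _ fun i _ => ?_
    by_cases hi : P i
    · have h1 := (S i).le_slopePart hτ ⟨E x i, rfl⟩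
      rwa [show ((S i).d : ℚ) / (S i).h = μ from hi] at h1
    · simp [E, dif_neg hi]
  have htop : R ⊔ R' = ⊤ := eq_top_iff.2 fun y _ => by
    obtain ⟨v, rfl⟩ := hS.2 y
    have hv : v = E (fun i => v i.1) + fun i => if P i then 0 else v i := funext fun i => by
      by_cases hi : P i <;> simp [E, hi]
    rw [hv, map_add]
    refine add_mem (Submodule.mem_sup_left ⟨_, rfl⟩) (Submodule.mem_sup_right ?_)
    rw [sumEmb_apply]
    refine Submodule.sum_mem _ fun i _ => ?_
    by_cases hi : P i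
    · simp [hi]
    · exact Submodule.mem_iSup_of_mem _ (Submodule.mem_iSup_of_mem hi ((S i).le_slopePart hτ ⟨_, rfl⟩))
  have hd : slopePart F μ ⊓ R' = ⊥ := disjoint_iff.1 (iSupIndep_slopePart hτ hF μ)
  have hR : slopePart F μ = R := by
    refine le_antisymm (fun x hx => ?_) hRle
    obtain ⟨r, hr, r', hr', rfl⟩ := Submodule.mem_sup.1 (htop.symm ▸ Submodule.mem_top : x ∈ R ⊔ R')
    have h0 : r' ∈ slopePart F μ ⊓ R' := by
      refine ⟨?_, hr'⟩
      have := sub_mem hx (hRle hr)
      rwa [add_sub_cancel_left] at this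
    rw [hd, Submodule.mem_bot] at h0
    rwa [h0, add_zero]
  rw [newtonMult, hR, LinearMap.finrank_range_of_inj (f := sumEmb S ∘ₗ E) (hS.1.comp hEinj), Module.finrank_pi_fintype]
  simp only [Module.finrank_fin_fun]
  rw [← Finset.sum_filter]
  exact (Finset.sum_subtype _ (fun i => by simp [P]) fun i => (S i).h).symm

end Groth.Agent.IsocLib
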