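import Groth.Agent.IsocLib.Det

/-!
# The first slope
-/

set_option backward.isDefEq.respectTransparency false
set_option backward.isDefEq.respectTransparency.types false
set_option linter.style.haveILetI false
set_option linter.unusedSectionVars false
set_option autoImplicit false

universe u v

open scoped Pointwise Isocrystal
open Isoc Module Filter Topology

namespace Groth.Agent.IsocLib

variable {p : ℕ} [Fact p.Prime] {k : Type u} [Field k] [CharP k p] [PerfectRing k p]
variable {N : Type v} [AddCommGroup N] [Module (WittVector p k) N] [Module K(p, k) N] [IsScalarTower (WittVector p k) K(p, k) N]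
variable {τ : K(p, k) →+* K(p, k)} {F : N →ₛₗ[τ] N}

/-! ### Orders with respect to a lattice -/

theorem le_ord {M : Submodule (WittVector p k) N} {s : ℕ} {o r : ℤ} (h : IsOrd M F s o) :
    latImg F s M ≤ pPow r M ↔ r ≤ o := by
  refine ⟨fun hr => ?_, fun hr => h.1.trans (pPow_anti hr M)⟩
  by_contra hlt
  exact h.2 (hr.trans (pPow_anti (by omega) M))

theorem lattice_ne_bot [Nontrivial N] (M : Submodule (WittVector p k) N) [hM : M.IsLattice K(p, k)] : M ≠ ⊥ := by
  rintro rfl
  have := hM.span_eq_top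
  rw [Submodule.bot_coe, Submodule.span_zero_singleton] at this
  exact bot_ne_top this

theorem not_le_pPow [Nontrivial N] (M : Submodule (WittVector p k) N) [hM : M.IsLattice K(p, k)] {r : ℤ} (hr : 1 ≤ r) :
    ¬ M ≤ pPow r M := fun h => lattice_ne_bot M (eq_bot_of_le_pPow hM.fg hr h)

theorem exists_isOrd [Nontrivial N] (hτ : Twist τ) (hF : Function.Bijective F) (M : Submodule (WittVector p k) N)
    [hM : M.IsLattice K(p, k)] (s : ℕ) : ∃ o, IsOrd M F s o := by
  have := isLattice_latImg hτ hF s M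
  obtain ⟨c, hc⟩ := exists_pPow_le_lattice (latImg F s M) M
  obtain ⟨c', hc'⟩ := exists_pPow_le_lattice M (latImg F s M)
  obtain ⟨o, ho, hmax⟩ := Int.exists_greatest_of_bdd (P := fun r => latImg F s M ≤ pPow r M)
    ⟨c', fun r hr => by
      by_contra hlt
      refine not_le_pPow M (show 1 ≤ r - c' by omega) ?_
      rw [← pPow_le_pPow_iff (r := (c' : ℤ)), pPow_pPow, show (c' : ℤ) + (r - c') = r by ring]
      exact hc'.trans hr⟩
    ⟨-c, by
      rw [← pPow_le_pPow_iff (r := (c : ℤ)), pPow_pPow, add_neg_cancel, pPow_zero]; exact hc⟩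
  exact ⟨o, ho, fun h => by linarith [hmax _ h]⟩

theorem latImg_add_le (hτ : Twist τ) {M : Submodule (WittVector p k) N} {a b : ℕ} {r r' : ℤ}
    (ha : latImg F a M ≤ pPow r M) (hb : latImg F b M ≤ pPow r' M) :
    latImg F (a + b) M ≤ pPow (r + r') M := by
  rw [← latImg_latImg hτ, add_comm r r', ← pPow_pPow]
  refine (latImg_mono F a hb).trans ?_
  rw [latImg_pPow hτ]
  exact pPow_mono _ ha

theorem latImg_mul_le (hτ : Twist τ) {M : Submodule (WittVector p k) N} {s : ℕ} {r : ℤ}
    (h : latImg F s M ≤ pPow r M) (j : ℕ) : latImg F (s * j) M ≤ pPow (r * j) M := by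
  induction j with
  | zero => simp [latImg_zero hτ]
  | succ j ih =>
    rw [Nat.mul_succ, Nat.cast_succ, mul_add, mul_one]
    exact latImg_add_le hτ ih h

theorem latImg_mul_eq (hτ : Twist τ) {M : Submodule (WittVector p k) N} {s : ℕ} {r : ℤ}
    (h : latImg F s M = pPow r M) (j : ℕ) : latImg F (s * j) M = pPow (r * j) M := by
  induction j with
  | zero => simp [latImg_zero hτ]
  | succ j ih =>
    rw [Nat.mul_succ, Nat.cast_succ, mul_add, mul_one, ← latImg_latImg hτ, h, latImg_pPow hτ, ih,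
      pPow_pPow, add_comm r]

theorem nontrivial_of_isOrd {M : Submodule (WittVector p k) N} {s : ℕ} {o : ℤ} (h : IsOrd M F s o) : Nontrivial N := by
  rcases subsingleton_or_nontrivial N with hs | hn
  · exact absurd (fun x _ => by rw [Subsingleton.elim x 0]; exact zero_mem _) h.2
  · exact hn

/-! ### Existence and uniqueness of the limit -/

theorem exists_lim [Nontrivial N] (hτ : Twist τ) (hF : IsIsoc F) (M : Submodule (WittVector p k) N) [M.IsLattice K(p, k)] :
    ∃ o : ℕ → ℤ, (∀ n, 1 ≤ n → IsOrd M F n (o n)) ∧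
      ∃ lam : ℝ, Tendsto (fun n : ℕ => (o n : ℝ) / n) atTop (𝓝 lam) := by
  classical
  have := hF.finite
  choose o' ho' using fun n => exists_isOrd hτ hF.bijective M n
  let o : ℕ → ℤ := fun n => if n = 0 then 0 else o' n
  have ho : ∀ n, 1 ≤ n → IsOrd M F n (o n) := fun n hn => by
    simp only [o, if_neg (Nat.one_le_iff_ne_zero.1 hn)]; exact ho' n
  have hle : ∀ n, latImg F n M ≤ pPow (o n) M := fun n => by
    rcases Nat.eq_zero_or_pos n with rfl | hn
    · simp [o, latImg_zero hτ]
    · exact (ho n hn).1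
  refine ⟨o, ho, ?_⟩
  have hsub : Subadditive (fun n => -(o n : ℝ)) := fun a b => by
    rcases Nat.eq_zero_or_pos (a + b) with h0 | hab
    · obtain ⟨rfl, rfl⟩ : a = 0 ∧ b = 0 := by omega
      simp [o]
    · have h1 : o a + o b ≤ o (a + b) := (le_ord (ho _ hab)).1 (latImg_add_le hτ (hle a) (hle b))
      have h2 : (o a : ℝ) + o b ≤ o (a + b) := by exact_mod_cast h1
      linarith
  let b := finBasis K(p, k) N
  obtain ⟨d, hd⟩ := exists_isOrdP_det hτ b hF.bijective.injective
  have hpos : (0 : ℝ) < finrank K(p, k) N := by exact_mod_cast finrank_pos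
  have hbdd : BddBelow (Set.range fun n : ℕ => -(o n : ℝ) / n) := by
    refine ⟨min 0 (-(d : ℝ) / finrank K(p, k) N), ?_⟩
    rintro _ ⟨n, rfl⟩
    rcases Nat.eq_zero_or_pos n with rfl | hn
    · simp
    refine (min_le_right _ _).trans ?_
    rw [div_le_div_iff₀ hpos (by exact_mod_cast hn)]
    have h1 := le_det hτ b hd (hle n)
    have h2 : (o n : ℝ) * finrank K(p, k) N ≤ n * d := by exact_mod_cast h1
    linarith
  refine ⟨-hsub.lim, ?_⟩
  have := (hsub.tendsto_lim hbdd).neg
  refine this.congr fun n => ?_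
  ring

theorem lim_unique (hτ : Twist τ) (M₁ M₂ : Submodule (WittVector p k) N) [M₁.IsLattice K(p, k)] [M₂.IsLattice K(p, k)]
    {o₁ o₂ : ℕ → ℤ} (ho₁ : ∀ n, 1 ≤ n → IsOrd M₁ F n (o₁ n)) (ho₂ : ∀ n, 1 ≤ n → IsOrd M₂ F n (o₂ n))
    {lam₁ lam₂ : ℝ} (h₁ : Tendsto (fun n : ℕ => (o₁ n : ℝ) / n) atTop (𝓝 lam₁))
    (h₂ : Tendsto (fun n : ℕ => (o₂ n : ℝ) / n) atTop (𝓝 lam₂)) : lam₁ = lam₂ := by
  have key : ∀ (A B : Submodule (WittVector p k) N) [A.IsLattice K(p, k)] [B.IsLattice K(p, k)] (a b : ℕ → ℤ),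
      (∀ n, 1 ≤ n → IsOrd A F n (a n)) → (∀ n, 1 ≤ n → IsOrd B F n (b n)) →
      ∃ c : ℕ, ∀ n, 1 ≤ n → a n ≤ b n + c := by
    intro A B _ _ a b ha hb
    obtain ⟨c, hc⟩ := exists_pPow_le_lattice A B
    obtain ⟨c', hc'⟩ := exists_pPow_le_lattice B A
    refine ⟨c + c', fun n hn => ?_⟩
    have h1 : latImg F n (pPow (c' : ℤ) B) ≤ pPow (a n - c) B :=
      (latImg_mono F n hc').trans <| (ha n hn).1.trans <| by
        rw [← pPow_le_pPow_iff (r := (c : ℤ)), pPow_pPow, pPow_pPow, add_comm, ← pPow_pPow,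
          show (c : ℤ) + (a n - c) = a n by ring]
        exact pPow_mono _ hc
    rw [latImg_pPow hτ, ← pPow_le_pPow_iff (r := -(c' : ℤ)), pPow_pPow, pPow_pPow, neg_add_cancel, pPow_zero] at h1
    have := (le_ord (hb n hn)).1 h1
    push_cast; omega
  have main : ∀ (a b : ℕ → ℤ) (c : ℕ) (x y : ℝ), (∀ n, 1 ≤ n → a n ≤ b n + c) →
      Tendsto (fun n : ℕ => (a n : ℝ) / n) atTop (𝓝 x) →
      Tendsto (fun n : ℕ => (b n : ℝ) / n) atTop (𝓝 y) → x ≤ y := by
    intro a b c x y hab hx hy
    have hy' := hy.add (tendsto_const_div_atTop_nhds_zero_nat (c : ℝ))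
    rw [add_zero] at hy'
    refine le_of_tendsto_of_tendsto hx hy' (eventually_atTop.2 ⟨1, fun n hn => ?_⟩)
    show (a n : ℝ) / n ≤ (b n : ℝ) / n + c / n
    rw [← add_div]
    refine div_le_div_of_nonneg_right ?_ (Nat.cast_nonneg n)
    exact_mod_cast hab n hn
  obtain ⟨c, hc⟩ := key M₁ M₂ o₁ o₂ ho₁ ho₂
  obtain ⟨c', hc'⟩ := key M₂ M₁ o₂ o₁ ho₂ ho₁
  exact le_antisymm (main _ _ c _ _ hc h₁ h₂) (main _ _ c' _ _ hc' h₂ h₁)

theorem slope_nontrivial {lam : ℝ} (h : IsFirstSlope F lam) : Nontrivial N := by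
  obtain ⟨M, _, o, ho, -⟩ := h
  exact nontrivial_of_isOrd (ho 1 le_rfl)

theorem slope_tendsto (hτ : Twist τ) (hF : IsIsoc F) {lam : ℝ} (h : IsFirstSlope F lam)
    (M : Submodule (WittVector p k) N) [M.IsLattice K(p, k)] :
    ∃ o : ℕ → ℤ, (∀ n, 1 ≤ n → IsOrd M F n (o n)) ∧
      Tendsto (fun n : ℕ => (o n : ℝ) / n) atTop (𝓝 lam) := by
  have := slope_nontrivial h
  obtain ⟨M₀, hM₀, o₀, ho₀, hlim₀⟩ := h
  obtain ⟨o, ho, l, hl⟩ := exists_lim hτ hF M
  exact ⟨o, ho, lim_unique hτ M M₀ ho ho₀ hl hlim₀ ▸ hl⟩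

theorem slope_ge (hτ : Twist τ) (hF : IsIsoc F) {lam : ℝ} (h : IsFirstSlope F lam)
    (M : Submodule (WittVector p k) N) [M.IsLattice K(p, k)] {s : ℕ} (hs : 0 < s) {r : ℤ} (hle : latImg F s M ≤ pPow r M) :
    (r : ℝ) / s ≤ lam := by
  obtain ⟨o, ho, hlim⟩ := slope_tendsto hτ hF h M
  have hs' : Tendsto (fun j : ℕ => s * j) atTop atTop :=
    tendsto_id.const_mul_atTop' hs
  refine le_of_tendsto_of_tendsto tendsto_const_nhds (hlim.comp hs') (eventually_atTop.2 ⟨1, fun j hj => ?_⟩)
  have hn : 1 ≤ s * j := Nat.one_le_iff_ne_zero.2 (Nat.mul_ne_zero (by omega) (by omega))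
  have h1 := (le_ord (ho _ hn)).1 (latImg_mul_le hτ hle j)
  have h2 : (r : ℝ) * j ≤ o (s * j) := by exact_mod_cast h1
  show (r : ℝ) / s ≤ (o (s * j) : ℝ) / ((s * j : ℕ) : ℝ)
  have hsR : (0 : ℝ) < s := by exact_mod_cast hs
  have hjR : (0 : ℝ) < j := by exact_mod_cast hj
  rw [Nat.cast_mul, div_le_div_iff₀ hsR (mul_pos hsR hjR)]
  nlinarith

theorem isFirstSlope_of_eq [Nontrivial N] (hτ : Twist τ) (hF : IsIsoc F) (M : Submodule (WittVector p k) N)
    [M.IsLattice K(p, k)] {s : ℕ} (hs : 0 < s) {r : ℤ} (heq : latImg F s M = pPow r M) :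
    IsFirstSlope F ((r : ℝ) / s) := by
  obtain ⟨o, ho, lam, hlim⟩ := exists_lim hτ hF M
  have hs' : Tendsto (fun j : ℕ => s * j) atTop atTop := tendsto_id.const_mul_atTop' hs
  have hev : (fun j : ℕ => (o (s * j) : ℝ) / ((s * j : ℕ) : ℝ)) =ᶠ[atTop] fun _ => (r : ℝ) / s := by
    refine eventually_atTop.2 ⟨1, fun j hj => ?_⟩
    have hn : 1 ≤ s * j := Nat.one_le_iff_ne_zero.2 (Nat.mul_ne_zero (by omega) (by omega))
    have hje := latImg_mul_eq hτ heq j
    have h1 : o (s * j) = r * j := by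
      refine le_antisymm ?_ ((le_ord (ho _ hn)).1 hje.le)
      by_contra hlt
      have h2 := (ho _ hn).1
      rw [hje, ← pPow_le_pPow_iff (r := -(r * (j : ℤ))), pPow_pPow, pPow_pPow, neg_add_cancel, pPow_zero] at h2
      exact not_le_pPow M (by omega) h2
    show (o (s * j) : ℝ) / ((s * j : ℕ) : ℝ) = (r : ℝ) / s
    rw [h1]
    push_cast
    field_simp
  have := tendsto_nhds_unique (hlim.comp hs') (tendsto_const_nhds.congr' hev.symm)
  exact ⟨M, ‹_›, o, ho, this ▸ hlim⟩

/-! ### Twisted iterates -/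

theorem twisted_iterate (m : ℤ) (n j : ℕ) (x : N) :
    (⇑((p : K(p, k)) ^ m • iter F n))^[j] x = (p : K(p, k)) ^ (m * j) • (⇑F)^[n * j] x := by
  induction j generalizing x with
  | zero => simp
  | succ j ih =>
    rw [Function.iterate_succ_apply', ih, LinearMap.smul_apply, iter_apply, iterate_qsmul, qzpow_smul_smul,
      ← Function.iterate_add_apply, Nat.mul_succ, add_comm n, Nat.cast_succ, mul_add, mul_one, add_comm m]

theorem twisted_latImg (hτ : Twist τ) (m : ℤ) (n j : ℕ) (M : Submodule (WittVector p k) N) :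
    latImg ((p : K(p, k)) ^ m • iter F n) j M = pPow (m * j) (latImg F (n * j) M) := by
  ext x
  rw [mem_latImg (hτ.pow n), mem_pPow, mem_latImg hτ]
  simp only [twisted_iterate]
  constructor
  · rintro ⟨y, hy, rfl⟩
    exact ⟨y, hy, by rw [qzpow_smul_smul]; simp⟩
  · rintro ⟨y, hy, h⟩
    exact ⟨y, hy, by rw [h, qzpow_smul_smul]; simp⟩

theorem isIsoc_twisted (hF : IsIsoc F) (m : ℤ) (n : ℕ) : IsIsoc ((p : K(p, k)) ^ m • iter F n) := by
  refine ⟨hF.finite, ?_⟩
  have h1 : Function.Bijective fun x : N => (p : K(p, k)) ^ m • x :=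
    (LinearEquiv.smulOfUnit (R := K(p, k)) (M := N) (Units.mk0 ((p : K(p, k)) ^ m) (zpow_ne_zero _ q_ne))).bijective
  exact h1.comp (hF.bijective.iterate n)

theorem slope_twisted (hτ : Twist τ) (hF : IsIsoc F) {lam : ℝ} (h : IsFirstSlope F lam) (m : ℤ) (n : ℕ) :
    IsFirstSlope ((p : K(p, k)) ^ m • iter F n) (n * lam + m) := by
  have := slope_nontrivial h
  obtain ⟨M, hM, o, ho, hlim⟩ := h
  refine ⟨M, hM, fun j => m * j + if n = 0 then 0 else o (n * j), fun j hj => ?_, ?_⟩
  · simp only [IsOrd, twisted_latImg hτ]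
    rcases Nat.eq_zero_or_pos n with rfl | hn
    · rw [if_pos rfl, add_zero, Nat.zero_mul, latImg_zero hτ]
      refine ⟨le_rfl, fun hle => ?_⟩
      rw [← pPow_pPow, pPow_le_pPow_iff] at hle
      exact not_le_pPow M le_rfl hle
    · rw [if_neg hn.ne', add_assoc, ← pPow_pPow (m * j), ← pPow_pPow (m * j), pPow_le_pPow_iff, pPow_le_pPow_iff]
      exact ho _ (Nat.one_le_iff_ne_zero.2 (Nat.mul_ne_zero hn.ne' (by omega)))
  · rcases Nat.eq_zero_or_pos n with rfl | hn
    · refine tendsto_const_nhds.congr' (eventually_atTop.2 ⟨1, fun j hj => ?_⟩)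
      have hjR : (0 : ℝ) < j := by exact_mod_cast hj
      simp only [if_pos rfl, add_zero]
      push_cast
      field_simp
      ring
    · have hn' : Tendsto (fun j : ℕ => n * j) atTop atTop := tendsto_id.const_mul_atTop' hn
      refine (((hlim.comp hn').const_mul (n : ℝ)).add_const (m : ℝ)).congr'
        (eventually_atTop.2 ⟨1, fun j hj => ?_⟩)
      have hjR : (0 : ℝ) < j := by exact_mod_cast hj
      have hnR : (0 : ℝ) < n := by exact_mod_cast hn
      simp only [Function.comp_apply, if_neg hn.ne']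
      push_cast
      field_simp
      ring

/-! ### Effective isocrystals -/

theorem isLattice_finsetSup (hτ : Twist τ) (hF : Function.Bijective F) (M : Submodule (WittVector p k) N)
    [hM : M.IsLattice K(p, k)] (n : ℕ) :
    ((Finset.range (n + 1)).sup fun i => latImg F i M).IsLattice K(p, k) := by
  induction n with
  | zero =>
    simp only [zero_add, Finset.range_one, Finset.sup_singleton, latImg_zero hτ]
    exact hM
  | succ n ih =>
    rw [Finset.range_add_one (n := n + 1), Finset.sup_insert]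
    have h' := isLattice_latImg hτ hF (n + 1) M
    exact Submodule.IsLattice.of_le_of_isLattice_of_fg (M := latImg F (n + 1) M) _ le_sup_left ((latImg_fg hτ (n + 1) hM.fg).sup ih.fg)

theorem latImg_finsetSup {ι : Type} (S : Finset ι) (f : ι → Submodule (WittVector p k) N) (s : ℕ) :
    latImg F s (S.sup f) = S.sup fun i => latImg F s (f i) := by
  classical
  induction S using Finset.induction with
  | empty =>
    refine le_antisymm ((latImg_le_iff F).2 fun y hy => ?_) bot_le
    rw [Finset.sup_empty, Submodule.mem_bot] at hy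
    rw [hy, show (⇑F)^[s] 0 = 0 from map_zero (iter F s)]
    exact zero_mem _
  | insert a S ha ih => rw [Finset.sup_insert, Finset.sup_insert, latImg_sup, ih]

theorem effective_of_iterate (hτ : Twist τ) (hF : Function.Bijective F) (M : Submodule (WittVector p k) N) [M.IsLattice K(p, k)]
    {n : ℕ} (h : latImg F (n + 1) M ≤ M) : IsEffective F := by
  refine ⟨_, isLattice_finsetSup hτ hF M n, ?_⟩
  rw [latImg_finsetSup]
  refine Finset.sup_le fun i hi => ?_
  rw [latImg_latImg hτ, add_comm]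
  rcases Nat.lt_succ_iff_lt_or_eq.1 (Finset.mem_range.1 hi) with h' | rfl
  · exact Finset.le_sup (f := fun i => latImg F i M) (Finset.mem_range.2 (by omega))
  · exact h.trans (le_of_eq_of_le (latImg_zero hτ M).symm
      (Finset.le_sup (f := fun i => latImg F i M) (Finset.mem_range.2 (by omega))))

theorem eq_p_mul_of_coeff_zero {w : (WittVector p k)} (h : w.coeff 0 = 0) : ∃ z : (WittVector p k), w = (p : (WittVector p k)) * z := by
  rcases eq_or_ne w 0 with rfl | hw
  · exact ⟨0, by simp⟩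
  obtain ⟨m, u, rfl⟩ := WittVector.exists_eq_pow_p_mul' w hw
  cases m with
  | zero =>
    rw [pow_zero, one_mul] at h
    exact absurd h (u.isUnit.map (WittVector.constantCoeff (p := p) (R := k))).ne_zero
  | succ m => exact ⟨(p : (WittVector p k)) ^ m * u, by rw [pow_succ']; ring⟩

/-- A chain of `h + 2` submodules between `pM` and `M` has a repetition, `h` the height. -/
theorem exists_eq_of_chain [Module.Finite K(p, k) N] (M : Submodule (WittVector p k) N) [M.IsLattice K(p, k)]
    (G : ℕ → Submodule (WittVector p k) N) (hmono : Monotone G) (hlo : pPow 1 M ≤ G 0)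
    (hhi : G (finrank K(p, k) N + 1) ≤ M) : ∃ j ≤ finrank K(p, k) N, G (j + 1) = G j := by
  set h := finrank K(p, k) N with hh
  obtain ⟨b, hb⟩ := exists_lattice_basis M hh.symm
  let π : (Fin h → (WittVector p k)) → (Fin h → k) := fun w i => WittVector.constantCoeff (w i)
  let comb : (Fin h → (WittVector p k)) →ₗ[(WittVector p k)] N := Fintype.linearCombination (WittVector p k) b
  let S : ℕ → Submodule k (Fin h → k) := fun j =>
    { carrier := π '' {w | comb w ∈ G j}
      add_mem' := by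
        rintro _ _ ⟨a, ha, rfl⟩ ⟨c, hc, rfl⟩
        exact ⟨a + c, by simpa only [Set.mem_setOf_eq, map_add] using add_mem ha hc,
          funext fun i => map_add _ (a i) (c i)⟩
      zero_mem' := ⟨0, by simp, funext fun i => by simp [π]⟩
      smul_mem' := by
        rintro c _ ⟨a, ha, rfl⟩
        refine ⟨WittVector.teichmuller p c • a, by
          simpa only [Set.mem_setOf_eq, map_smul] using (G j).smul_mem _ ha, funext fun i => ?_⟩
        simp [π, WittVector.constantCoeff, WittVector.mul_coeff_zero, WittVector.teichmuller_coeff_zero] }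
  have hS : Monotone S := fun a c hac v hv => by
    obtain ⟨w, hw, rfl⟩ := hv
    exact ⟨w, hmono hac hw, rfl⟩
  by_contra! hne
  have hstrict : ∀ j ≤ h, S j < S (j + 1) := fun j hj => by
    refine lt_of_le_of_ne (hS (Nat.le_succ j)) fun heq => hne j hj (le_antisymm (fun x hx => ?_) (hmono (Nat.le_succ j)))
    have hxM : x ∈ M := hhi (hmono (by omega) hx)
    choose w hw using fun i => repr_mem_range hb hxM i
    have hxw : comb w = x := by
      conv_rhs => rw [← b.sum_repr x]
      simp [comb, Fintype.linearCombination_apply, hw]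
    have hmem : π w ∈ S j := heq ▸ (⟨w, by rwa [Set.mem_setOf_eq, hxw], rfl⟩ : π w ∈ S (j + 1))
    obtain ⟨w', hw', hww⟩ := hmem
    choose z hz using fun i => eq_p_mul_of_coeff_zero (w := w i - w' i) (by
      have := congrFun hww i
      show WittVector.constantCoeff (w i - w' i) = 0
      rw [map_sub, sub_eq_zero]
      exact this.symm)
    have hsub : x = comb w' + (p : K(p, k)) ^ (1 : ℤ) • comb z := by
      rw [show ((1 : ℤ)) = ((1 : ℕ) : ℤ) from rfl, qpow_smul, pow_one, ← hxw, ← map_smul, ← map_add]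
      congr 1
      funext i
      simp [← hz i]
    rw [hsub]
    refine add_mem hw' (hmono (Nat.zero_le j) (hlo (smul_mem_pPow ?_)))
    rw [hb]
    refine Submodule.mem_span_range_iff_exists_fun (WittVector p k) |>.2 ⟨z, ?_⟩
    simp [comb, Fintype.linearCombination_apply]
  have hgrow : ∀ j ≤ h + 1, j ≤ finrank k (S j) := by
    intro j hj
    induction j with
    | zero => exact Nat.zero_le _
    | succ j ih =>
      have := Submodule.finrank_lt_finrank_of_lt (hstrict j (by omega))
      have := ih (by omega)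
      omega
  have h1 := hgrow (h + 1) le_rfl
  have h2 := Submodule.finrank_le (S (h + 1))
  rw [Module.finrank_fin_fun] at h2
  omega

theorem effective_of_latImg_succ [Module.Finite K(p, k) N] (hτ : Twist τ) (hF : Function.Bijective F)
    (M : Submodule (WittVector p k) N) [M.IsLattice K(p, k)]
    (h : latImg F (finrank K(p, k) N + 1) M ≤ pPow (-1) M) : IsEffective F := by
  set d := finrank K(p, k) N with hd
  let U : ℕ → Submodule (WittVector p k) N := fun n => (Finset.range (n + 1)).sup fun i => latImg F i M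
  have hU : Monotone U := fun a b hab => Finset.sup_mono (Finset.range_mono (by omega))
  have hUl : ∀ n, (U n).IsLattice K(p, k) := fun n => isLattice_finsetSup hτ hF M n
  have hle1 : U d ≤ pPow (-1) (U d) := fun x hx =>
    pPow_anti (show (-1 : ℤ) ≤ 0 by norm_num) _ (by rwa [pPow_zero])
  have hhi : U (2 * d + 1) ≤ pPow (-1) (U d) := Finset.sup_le fun i hi => by
    rw [Finset.mem_range] at hi
    rcases le_or_gt i d with hid | hid
    · exact le_trans (Finset.le_sup (f := fun i => latImg F i M) (Finset.mem_range.2 (by omega))) hle1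
    · obtain ⟨e, rfl⟩ := Nat.le.dest (show d + 1 ≤ i by omega)
      rw [add_comm, ← latImg_latImg hτ]
      refine (latImg_mono F e h).trans ?_
      rw [latImg_pPow hτ]
      exact pPow_mono _ (Finset.le_sup (f := fun i => latImg F i M) (Finset.mem_range.2 (by omega)))
  have := hUl d
  have := isLattice_pPow (-1) (U d)
  obtain ⟨j, hj, heq⟩ := exists_eq_of_chain (pPow (-1) (U d)) (fun j => U (d + j))
    (fun a b hab => hU (by omega)) (by rw [pPow_pPow]; simp)
    (by simpa only [← hd, show d + (d + 1) = 2 * d + 1 by ring] using hhi)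
  refine ⟨U (d + j), hUl _, ?_⟩
  conv_rhs => rw [← heq]
  simp only [U, latImg_finsetSup, latImg_latImg hτ]
  refine Finset.sup_le fun i hi => ?_
  rw [Finset.mem_range] at hi
  exact Finset.le_sup (f := fun i => latImg F i M) (Finset.mem_range.2 (by omega))

theorem effective_of_slope_pos (hτ : Twist τ) (hF : IsIsoc F) {lam : ℝ} (h : IsFirstSlope F lam)
    (hpos : 0 < lam) : IsEffective F := by
  have := hF.finite
  obtain ⟨M, hM, o, ho, hlim⟩ := h
  obtain ⟨n, hn, hn1⟩ := ((hlim.eventually (eventually_gt_nhds hpos)).and (eventually_ge_atTop 1)).exists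
  obtain ⟨n, rfl⟩ : ∃ m, n = m + 1 := ⟨n - 1, by omega⟩
  refine effective_of_iterate hτ hF.bijective M (n := n) ((ho _ hn1).1.trans ?_)
  have : 0 < o (n + 1) := by
    by_contra hle
    have h2 : (o (n + 1) : ℝ) ≤ 0 := by exact_mod_cast not_lt.1 hle
    exact absurd hn (not_lt.2 (div_nonpos_of_nonpos_of_nonneg h2 (Nat.cast_nonneg _)))
  exact (pPow_anti this.le M).trans_eq (pPow_zero M)

theorem effective_of_step (hτ : Twist τ) (hF : IsIsoc F)
    (h : IsEffective ((p : K(p, k)) ^ (1 : ℤ) • iter F (finrank K(p, k) N + 1))) : IsEffective F := by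
  have := hF.finite
  obtain ⟨M, hM, hle⟩ := h
  refine effective_of_latImg_succ hτ hF.bijective M ?_
  rw [twisted_latImg hτ, mul_one, ← pPow_le_pPow_iff (r := (-1 : ℤ)), pPow_pPow] at hle
  simpa using hle

theorem effective_of_slope_nonneg (hτ : Twist τ) (hF : IsIsoc F) {lam : ℝ} (h : IsFirstSlope F lam)
    (h0 : 0 ≤ lam) : IsEffective F :=
  effective_of_step hτ hF (effective_of_slope_pos (hτ.pow _) (isIsoc_twisted hF _ _)
    (slope_twisted hτ hF h 1 _) (by
      have : (0 : ℝ) ≤ ((finrank K(p, k) N + 1 : ℕ) : ℝ) * lam := mul_nonneg (Nat.cast_nonneg _) h0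
      push_cast at this ⊢
      linarith))

theorem effective_of_slope_ge (hτ : Twist τ) (hF : IsIsoc F) {lam : ℝ} (h : IsFirstSlope F lam)
    (h0 : -1 ≤ ((finrank K(p, k) N + 1 : ℕ) : ℝ) * lam) : IsEffective F :=
  effective_of_step hτ hF (effective_of_slope_nonneg (hτ.pow _) (isIsoc_twisted hF _ _)
    (slope_twisted hτ hF h 1 _) (by push_cast at h0 ⊢; linarith))

theorem slope_nonneg_of_effective (hτ : Twist τ) (hF : IsIsoc F) {lam : ℝ} (h : IsFirstSlope F lam)
    (he : IsEffective F) : 0 ≤ lam := by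
  obtain ⟨M, hM, hle⟩ := he
  simpa using slope_ge hτ hF h M (r := 0) one_pos (by rwa [pPow_zero])

theorem exists_lattice_le (hτ : Twist τ) (hF : IsIsoc F) {lam : ℝ} (h : IsFirstSlope F lam) (r : ℤ)
    {s : ℕ} (hs : 0 < s) (hrs : (r : ℝ) / s ≤ lam) :
    ∃ M : Submodule (WittVector p k) N, M.IsLattice K(p, k) ∧ latImg F s M ≤ pPow r M := by
  have hsR : (0 : ℝ) < s := by exact_mod_cast hs
  rw [div_le_iff₀ hsR] at hrs
  obtain ⟨M, hM, hle⟩ := effective_of_slope_nonneg (hτ.pow s) (isIsoc_twisted hF (-r) s)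
    (slope_twisted hτ hF h (-r) s) (by push_cast; linarith)
  refine ⟨M, hM, ?_⟩
  rw [twisted_latImg hτ, ← pPow_le_pPow_iff (r := r), pPow_pPow] at hle
  simpa using hle

theorem latImg_le_self (hτ : Twist τ) {M : Submodule (WittVector p k) N} (h1 : latImg F 1 M ≤ M) (n : ℕ) :
    latImg F n M ≤ M := by
  induction n with
  | zero => rw [latImg_zero hτ]
  | succ n ih => rw [← latImg_latImg hτ]; exact (latImg_mono F n h1).trans ih

theorem latImg_finrank_le [Module.Finite K(p, k) N] (hτ : Twist τ) (M : Submodule (WittVector p k) N) [hM : M.IsLattice K(p, k)]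
    (h1 : latImg F 1 M ≤ M) {n : ℕ} (hn : latImg F n M ≤ pPow 1 M) :
    latImg F (finrank K(p, k) N) M ≤ pPow 1 M := by
  set d := finrank K(p, k) N with hd
  have hanti : ∀ a b, a ≤ b → latImg F b M ≤ latImg F a M := fun a b hab => by
    obtain ⟨c, rfl⟩ := Nat.le.dest hab
    rw [← latImg_latImg hτ]
    exact latImg_mono F a (latImg_le_self hτ h1 c)
  have hp : pPow 1 M ≤ M := (pPow_anti (by norm_num : (0 : ℤ) ≤ 1) M).trans_eq (pPow_zero M)
  let A : ℕ → Submodule (WittVector p k) N := fun j => latImg F j M ⊔ pPow 1 M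
  have hA : ∀ a b, a ≤ b → A b ≤ A a := fun a b hab => sup_le_sup_right (hanti a b hab) _
  obtain ⟨j, hj, heq⟩ := exists_eq_of_chain M (fun j => A (d + 1 - j))
    (fun a b hab => hA _ _ (by omega)) le_sup_right (by
      simp only [hd, Nat.sub_self, A, latImg_zero hτ]
      exact sup_le le_rfl hp)
  set i := d - j with hi
  have heq' : A i = A (i + 1) := by
    have : d + 1 - (j + 1) = i := by omega
    have h2 : d + 1 - j = i + 1 := by omega
    simpa [this, h2] using heq
  have hstep : ∀ m, A i ≤ A (i + m) := by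
    intro m
    induction m with
    | zero => exact le_rfl
    | succ m ih =>
      rw [heq']
      refine sup_le ?_ le_sup_right
      rw [add_comm i 1, ← latImg_latImg hτ, show i + (m + 1) = 1 + (i + m) by ring]
      refine (latImg_mono F 1 (le_sup_left.trans ih)).trans ?_
      simp only [A, latImg_sup, latImg_latImg hτ]
      refine sup_le_sup_left ?_ _
      rw [latImg_pPow hτ]
      exact pPow_mono _ h1
  exact (hanti i d (by omega)).trans <| le_sup_left.trans <| (hstep n).trans <|
    sup_le ((hanti n (i + n) (by omega)).trans hn) le_rfl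

/-- The first slope is a rational number with denominator at most the height. -/
theorem exists_slope_eq (hτ : Twist τ) (hF : IsIsoc F) {lam : ℝ} (h : IsFirstSlope F lam) :
    ∃ (r : ℤ) (s : ℕ) (M : Submodule (WittVector p k) N), 0 < s ∧ s ≤ finrank K(p, k) N ∧ lam = (r : ℝ) / s ∧
      M.IsLattice K(p, k) ∧ IsOrd M F s r := by
  have := slope_nontrivial h
  have := hF.finite
  have hh : 0 < finrank K(p, k) N := finrank_pos
  obtain ⟨r, s', hs0, hsn, habs⟩ := Real.exists_int_int_abs_mul_sub_le lam hh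
  obtain ⟨s, rfl⟩ := Int.eq_ofNat_of_zero_le hs0.le
  have hs : 0 < s := by exact_mod_cast hs0
  push_cast at habs
  rw [abs_le] at habs
  have hG := slope_twisted hτ hF h (-r) s
  set G := (p : K(p, k)) ^ (-r) • iter F s with hGdef
  set ε : ℝ := (s : ℝ) * lam + ((-r : ℤ) : ℝ) with hε
  have hh' : (0 : ℝ) < (finrank K(p, k) N : ℝ) + 1 := by positivity
  have hlo : -1 ≤ ((finrank K(p, k) N + 1 : ℕ) : ℝ) * ε := by
    rw [hε]; push_cast
    have h1 := habs.1
    rw [neg_div', div_le_iff₀ hh'] at h1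
    linarith
  have hGτ := hτ.pow s
  have hGi := isIsoc_twisted hF (-r) s
  obtain ⟨M, hM, hle⟩ := effective_of_slope_ge hGτ hGi hG hlo
  have hε0 : 0 ≤ ε := slope_nonneg_of_effective hGτ hGi hG ⟨M, hM, hle⟩
  have hεzero : ε = 0 := by
    by_contra hne
    have hpos : 0 < ε := lt_of_le_of_ne hε0 (Ne.symm hne)
    obtain ⟨o, ho, hlim⟩ := slope_tendsto hGτ hGi hG M
    obtain ⟨n, hn, hn1⟩ := ((hlim.eventually (eventually_gt_nhds hpos)).and (eventually_ge_atTop 1)).exists
    have hon : 1 ≤ o n := by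
      by_contra hlt
      have h2 : (o n : ℝ) ≤ 0 := by exact_mod_cast (by omega : o n ≤ 0)
      exact absurd hn (not_lt.2 (div_nonpos_of_nonpos_of_nonneg h2 (Nat.cast_nonneg _)))
    have h2 := latImg_finrank_le hGτ M hle ((ho n hn1).1.trans (pPow_anti hon M))
    have h3 := slope_ge hGτ hGi hG M hh h2
    have h4 : ε * ((finrank K(p, k) N : ℝ) + 1) ≤ 1 := by
      have h5 := habs.2
      rw [le_div_iff₀ hh'] at h5
      rw [hε]; push_cast; linarith
    rw [div_le_iff₀ (by exact_mod_cast hh)] at h3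
    push_cast at h3
    nlinarith
  refine ⟨r, s, M, hs, by exact_mod_cast hsn, ?_, hM, ?_, ?_⟩
  · have hsR : (0 : ℝ) < s := by exact_mod_cast hs
    rw [eq_div_iff hsR.ne']
    rw [hε] at hεzero
    push_cast at hεzero
    linarith
  · rw [twisted_latImg hτ, ← pPow_le_pPow_iff (r := r), pPow_pPow] at hle
    simpa using hle
  · intro hbad
    have h1 : latImg G 1 M ≤ pPow 1 M := by
      rw [hGdef, twisted_latImg hτ, ← pPow_le_pPow_iff (r := r), pPow_pPow, pPow_pPow]
      simpa using hbad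
    have := slope_ge hGτ hGi hG M one_pos h1
    rw [hεzero] at this
    norm_num at this

end Groth.Agent.IsocLib
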